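import Mathlib
import Cfsg.Prelude.Def_CaseTheorems
import Cfsg.Prelude.Def_Transfer

/-!
# S4402 (design by helper12): the concrete model `W3 = (C2 ≀ C2) ≀ C2` of `D8 ≀ C2`

`W3` is Mathlib's `IteratedWreathProduct C2 3` (definitionally), so a Sylow `2`-subgroup of
`Perm (Fin 8)` is `≃* W3` by `Sylow.mulEquivIteratedWreathProduct`.  `W3` has decidable equality and
a `Fintype` instance, and `decide` works for statements with ONE quantifier over `W3`
(`∀ g : W3, …`, 128 cases; use `set_option maxRecDepth 100000`), and for guarded double quantifiers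
when the guards cut the cases down (use `decide +kernel`).

Everything lives in `Cfsg.Agent.Helper12.S02`.  Plan: `plans/S4402_plan.md`.
-/

set_option autoImplicit false

namespace Cfsg.Agent.Helper12.S02

/-- the group of order 2 -/
abbrev C2 := Multiplicative (ZMod 2)

instance rwpDecEq (D Q : Type*) [DecidableEq D] [DecidableEq Q] [Fintype Q] :
    DecidableEq (RegularWreathProduct D Q) :=
  (RegularWreathProduct.equivProd D Q).decidableEq

instance rwpFintype (D Q : Type*) [Fintype D] [DecidableEq Q] [Fintype Q] :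
    Fintype (RegularWreathProduct D Q) :=
  Fintype.ofEquiv _ (RegularWreathProduct.equivProd D Q).symm

abbrev W1 := RegularWreathProduct PUnit.{1} C2
abbrev W2 := RegularWreathProduct W1 C2
abbrev W3 := RegularWreathProduct W2 C2

instance instDecEqW1 : DecidableEq W1 := rwpDecEq _ _
instance instDecEqW2 : DecidableEq W2 := rwpDecEq _ _
instance instDecEqW3 : DecidableEq W3 := rwpDecEq _ _
instance instFintypeW1 : Fintype W1 := rwpFintype _ _
instance instFintypeW2 : Fintype W2 := rwpFintype _ _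
instance instFintypeW3 : Fintype W3 := rwpFintype _ _

/-- the generator of `C2` -/
def σ : C2 := Multiplicative.ofAdd 1

/-- the generator of `W1 ≅ C2` -/
def u1 : W1 := ⟨fun _ => PUnit.unit, σ⟩

/-- `W2 ≅ D8`: the reflection `b2` (in the base group) -/
def b2 : W2 := ⟨fun x => if x = 1 then u1 else 1, 1⟩
/-- `W2 ≅ D8`: the top involution -/
def v2 : W2 := ⟨fun _ => 1, σ⟩
/-- `W2 ≅ D8`: the rotation of order 4 -/
def a2 : W2 := b2 * v2

/-- the embedding of `W2` as the first factor of the base group of `W3` (a function only) -/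
def ι (d : W2) : W3 := ⟨fun x => if x = 1 then d else 1, 1⟩

/-- the top involution of `W3` -/
def t0 : W3 := ⟨fun _ => 1, σ⟩
def a0 : W3 := ι a2
def b0 : W3 := ι b2
def a0' : W3 := t0 * a0 * t0⁻¹
def b0' : W3 := t0 * b0 * t0⁻¹
def z0 : W3 := a0 ^ 2
def z0' : W3 := a0' ^ 2

/-- the base group `D × D'` of `W3` (order 64) -/
def B0 : Subgroup W3 := (RegularWreathProduct.rightHom (D := W2) (Q := C2)).ker

instance : DecidablePred (· ∈ B0) := fun g =>
  decidable_of_iff (g.right = 1) (by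
    show g.right = 1 ↔ g ∈ B0
    rw [B0, MonoidHom.mem_ker]; rfl)


/-! ### decidable subgroups of `W3` -/

/-- `V10 = ⟨z0, b0, z0', b0'⟩` (base of the base, order 16) as a Boolean predicate -/
def pV1 (g : W3) : Bool := decide (g.right = 1) && decide (∀ x, (g.left x).right = 1)
/-- `V20 = ⟨z0, a0 b0, z0', a0' b0'⟩` (order 16) as a Boolean predicate -/
def pV2 (g : W3) : Bool :=
  decide (g.right = 1) && decide (∀ x, ((g.left x).left 1).right = ((g.left x).left σ).right)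
/-- `W0 = Z(B0) = ⟨z0, z0'⟩` (order 4) as a Boolean predicate -/
def pW (g : W3) : Bool := pV1 g && pV2 g
/-- `Z0 = Z(W3) = ⟨z0 z0'⟩` (order 2) as a Boolean predicate -/
def pZ (g : W3) : Bool :=
  pW g && decide (((g.left 1).left 1).right = ((g.left σ).left 1).right)

set_option maxRecDepth 1000000 in
theorem pV1_mul : ∀ g h : W3, pV1 g = true → pV1 h = true → pV1 (g * h) = true := by decide +kernel
set_option maxRecDepth 1000000 in
theorem pV1_inv : ∀ g : W3, pV1 g = true → pV1 g⁻¹ = true := by decide +kernel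
set_option maxRecDepth 1000000 in
theorem pV2_mul : ∀ g h : W3, pV2 g = true → pV2 h = true → pV2 (g * h) = true := by decide +kernel
set_option maxRecDepth 1000000 in
theorem pV2_inv : ∀ g : W3, pV2 g = true → pV2 g⁻¹ = true := by decide +kernel
set_option maxRecDepth 1000000 in
theorem pW_mul : ∀ g h : W3, pW g = true → pW h = true → pW (g * h) = true := by decide +kernel
set_option maxRecDepth 1000000 in
theorem pW_inv : ∀ g : W3, pW g = true → pW g⁻¹ = true := by decide +kernel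
set_option maxRecDepth 1000000 in
theorem pZ_mul : ∀ g h : W3, pZ g = true → pZ h = true → pZ (g * h) = true := by decide +kernel
set_option maxRecDepth 1000000 in
theorem pZ_inv : ∀ g : W3, pZ g = true → pZ g⁻¹ = true := by decide +kernel

def V10 : Subgroup W3 where
  carrier := {g | pV1 g = true}
  mul_mem' := fun {a b} ha hb => pV1_mul a b ha hb
  one_mem' := by decide
  inv_mem' := fun {a} ha => pV1_inv a ha
def V20 : Subgroup W3 where
  carrier := {g | pV2 g = true}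
  mul_mem' := fun {a b} ha hb => pV2_mul a b ha hb
  one_mem' := by decide
  inv_mem' := fun {a} ha => pV2_inv a ha
def W0 : Subgroup W3 where
  carrier := {g | pW g = true}
  mul_mem' := fun {a b} ha hb => pW_mul a b ha hb
  one_mem' := by decide
  inv_mem' := fun {a} ha => pW_inv a ha
def Z0 : Subgroup W3 where
  carrier := {g | pZ g = true}
  mul_mem' := fun {a b} ha hb => pZ_mul a b ha hb
  one_mem' := by decide
  inv_mem' := fun {a} ha => pZ_inv a ha

instance : DecidablePred (· ∈ V10) := fun g => decidable_of_iff (pV1 g = true) Iff.rfl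
instance : DecidablePred (· ∈ V20) := fun g => decidable_of_iff (pV2 g = true) Iff.rfl
instance : DecidablePred (· ∈ W0) := fun g => decidable_of_iff (pW g = true) Iff.rfl
instance : DecidablePred (· ∈ Z0) := fun g => decidable_of_iff (pZ g = true) Iff.rfl

/-! ### sanity checks (also serve as examples of the `decide` patterns that work) -/

example : Fintype.card W2 = 8 := by decide
example : a2 ^ 4 = 1 ∧ a2 ^ 2 ≠ 1 ∧ b2 ^ 2 = 1 ∧ b2 * a2 * b2⁻¹ = a2⁻¹ := by decide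
example : a0 ^ 4 = 1 ∧ a0 ^ 2 ≠ 1 ∧ b0 ^ 2 = 1 ∧ b0 * a0 * b0⁻¹ = a0⁻¹ ∧ t0 ^ 2 = 1 := by decide
example : a0 * a0' = a0' * a0 ∧ a0 * b0' = b0' * a0 ∧ b0 * a0' = a0' * b0 ∧ b0 * b0' = b0' * b0 := by
  decide
example : z0 ∈ W0 ∧ z0' ∈ W0 ∧ z0 ≠ z0' ∧ z0 * z0' ∈ Z0 ∧ z0 ∉ Z0 ∧ b0 ∈ V10 ∧ b0' ∈ V10 ∧
    a0 * b0 ∈ V20 ∧ a0' * b0' ∈ V20 ∧ b0 ∉ V20 ∧ a0 * b0 ∉ V10 ∧ t0 ∉ B0 ∧ a0 ∈ B0 := by decide
set_option maxRecDepth 100000 in
example : ∀ g : W3, g ∈ B0 → g ^ 2 ∈ W0 := by decide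
set_option maxRecDepth 100000 in
example : ∀ g : W3, g ∈ W0 ↔ (g = 1 ∨ g = z0 ∨ g = z0' ∨ g = z0 * z0') := by decide
set_option maxRecDepth 100000 in
example : ∀ g : W3, g ∈ V10 → ∃ w ∈ W0, g = w ∨ g = b0 * w ∨ g = b0' * w ∨ g = b0 * b0' * w := by
  decide +kernel
set_option maxRecDepth 1000000 in
/-- the centre of `W3` is `Z0` (unguarded double quantifier: about 16000 cheap cases, fine with
`decide +kernel`) -/
theorem center_W3 : ∀ g : W3, (∀ h : W3, h * g = g * h) → g ∈ Z0 := by decide +kernel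

/-! ### the model inside an ambient group -/

section ambient
variable {S : Type*} [Group S]

/-- `φ : W3 →* S` is an isomorphism of `W3` onto the subgroup `P` -/
structure WD (P : Subgroup S) (φ : W3 →* S) : Prop where
  inj : Function.Injective φ
  range_eq : φ.range = P

/-- the base group `D × D'` of `P` -/
def Bs (φ : W3 →* S) : Subgroup S := B0.map φ
/-- `Z(D × D') = ⟨z, z'⟩` -/
def Ws (φ : W3 →* S) : Subgroup S := W0.map φ
/-- `Z(P) = ⟨z z'⟩` -/
def Zs (φ : W3 →* S) : Subgroup S := Z0.map φ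
/-- the first normal `E16` of `P`: `⟨z, b, z', b'⟩` -/
def V1s (φ : W3 →* S) : Subgroup S := V10.map φ
/-- the second normal `E16` of `P`: `⟨z, ab, z', a'b'⟩` -/
def V2s (φ : W3 →* S) : Subgroup S := V20.map φ

/-- conjugation by `u` maps `X` into itself (for finite `X` this means `u` normalises `X`) -/
def NormBy (u : S) (X : Subgroup S) : Prop := ∀ x ∈ X, u * x * u⁻¹ ∈ X

/-- `u` swaps `V₁`, `V₂` and preserves the two factors: the action on the generators modulo `W` -/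
structure SwapForm (φ : W3 →* S) (u : S) : Prop where
  ha : ∃ w ∈ Ws φ, u * φ a0 * u⁻¹ = φ a0 * w
  hb : ∃ w ∈ Ws φ, u * φ b0 * u⁻¹ = φ a0 * φ b0 * w
  ha' : ∃ w ∈ Ws φ, u * φ a0' * u⁻¹ = φ a0' * w
  hb' : ∃ w ∈ Ws φ, u * φ b0' * u⁻¹ = φ a0' * φ b0' * w
  hW : ∀ w ∈ Ws φ, u * w * u⁻¹ = w

/-- `SwapForm` with the `D`-side normalised by inner automorphisms -/
structure SwapForm1 (φ : W3 →* S) (u : S) : Prop where
  ha : u * φ a0 * u⁻¹ = φ a0 ∨ u * φ a0 * u⁻¹ = φ a0 * φ z0'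
  hb : u * φ b0 * u⁻¹ = φ a0 * φ b0 ∨ u * φ b0 * u⁻¹ = φ a0 * φ b0 * φ z0'
  ha' : ∃ w ∈ Ws φ, u * φ a0' * u⁻¹ = φ a0' * w
  hb' : ∃ w ∈ Ws φ, u * φ b0' * u⁻¹ = φ a0' * φ b0' * w
  hW : ∀ w ∈ Ws φ, u * w * u⁻¹ = w

/-- `SwapForm` with both sides normalised by inner automorphisms -/
structure SwapForm2 (φ : W3 →* S) (u : S) : Prop where
  ha : u * φ a0 * u⁻¹ = φ a0 ∨ u * φ a0 * u⁻¹ = φ a0 * φ z0'
  hb : u * φ b0 * u⁻¹ = φ a0 * φ b0 ∨ u * φ b0 * u⁻¹ = φ a0 * φ b0 * φ z0'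
  ha' : u * φ a0' * u⁻¹ = φ a0' ∨ u * φ a0' * u⁻¹ = φ a0' * φ z0
  hb' : u * φ b0' * u⁻¹ = φ a0' * φ b0' ∨ u * φ b0' * u⁻¹ = φ a0' * φ b0' * φ z0
  hW : ∀ w ∈ Ws φ, u * w * u⁻¹ = w

/-- the final normal form of an element `u ∈ N_S(P) − P` -/
structure YForm (φ : W3 →* S) (u : S) : Prop where
  ha : u * φ a0 * u⁻¹ = φ a0
  ha' : u * φ a0' * u⁻¹ = φ a0'
  hb : (u * φ b0 * u⁻¹ = φ a0 * φ b0 ∧ u * φ b0' * u⁻¹ = φ a0' * φ b0') ∨
    (u * φ b0 * u⁻¹ = φ a0 * φ b0 * φ z0' ∧ u * φ b0' * u⁻¹ = φ a0' * φ b0' * φ z0)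
  ht : ∃ c ∈ Zs φ, u * φ t0 * u⁻¹ = φ t0 * c
  hsq : ∃ c ∈ Zs φ, u ^ 2 = φ a0 * φ a0' * c

/-- the relations modulo `Z = Zs φ` between `s`, `t = φ t0`, `b = φ b0` needed to recognise
`N_S(P)/Z` as `D8 ≀ C2` (`X₂ = ⟨s, t⟩`, `X₁ = b X₂ b⁻¹`) -/
structure QRel (φ : W3 →* S) (s : S) : Prop where
  r_s4 : s ^ 4 ∈ Zs φ
  r_s2 : s ^ 2 ∉ Zs φ
  r_ts : φ t0 * s * (φ t0)⁻¹ * s ∈ Zs φ
  r_ss : s * (φ b0 * s * (φ b0)⁻¹) * s⁻¹ * (φ b0 * s * (φ b0)⁻¹)⁻¹ ∈ Zs φ
  r_st : s * (φ b0 * φ t0 * (φ b0)⁻¹) * s⁻¹ * (φ b0 * φ t0 * (φ b0)⁻¹)⁻¹ ∈ Zs φ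
  r_ts' : φ t0 * (φ b0 * s * (φ b0)⁻¹) * (φ t0)⁻¹ * (φ b0 * s * (φ b0)⁻¹)⁻¹ ∈ Zs φ
  r_ne : s ^ 2 * ((φ b0 * s * (φ b0)⁻¹) ^ 2)⁻¹ ∉ Zs φ

end ambient

end Cfsg.Agent.Helper12.S02
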