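import Mathlib
import Cfsg.Agent.Lib.S02.S02Defs

/-! S4402 design (helper12), piece KINV.  See plans/S4402_plan.md. -/

set_option autoImplicit false

namespace Cfsg.Agent.Helper12.S02

open Subgroup

/-- in a finite group, `u X u⁻¹ ⊆ X` implies `u⁻¹ X u ⊆ X` and `u x u⁻¹ ∈ X ↔ x ∈ X` -/
theorem normBy_inv {S : Type*} [Group S] [Finite S] {u : S} {X : Subgroup S} (h : NormBy u X) :
    NormBy u⁻¹ X ∧ (∀ x : S, u * x * u⁻¹ ∈ X ↔ x ∈ X) := by
  have hpow : ∀ k : ℕ, ∀ x ∈ X, u ^ k * x * (u ^ k)⁻¹ ∈ X := by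
    intro k
    induction k with
    | zero =>
      intro x hx
      simpa using hx
    | succ k ih =>
      intro x hx
      have h1 := h _ (ih x hx)
      have e : u ^ (k + 1) * x * (u ^ (k + 1))⁻¹ = u * (u ^ k * x * (u ^ k)⁻¹) * u⁻¹ := by
        rw [pow_succ']; group
      rw [e]
      exact h1
  have hinv : NormBy u⁻¹ X := by
    intro x hx
    have hm : 0 < orderOf u := orderOf_pos u
    have e1 : u ^ (orderOf u - 1) * u = 1 := by
      rw [← pow_succ, Nat.sub_add_cancel hm, pow_orderOf_eq_one]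
    have e2 : u⁻¹ = u ^ (orderOf u - 1) := (eq_inv_of_mul_eq_one_left e1).symm
    have h1 := hpow (orderOf u - 1) x hx
    rw [← e2] at h1
    exact h1
  refine ⟨hinv, fun x => ⟨fun hx => ?_, fun hx => h x hx⟩⟩
  have h1 := hinv _ hx
  have e : u⁻¹ * (u * x * u⁻¹) * u⁻¹⁻¹ = x := by group
  rw [e] at h1
  exact h1

end Cfsg.Agent.Helper12.S02
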