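import Mathlib
import Cfsg.Agent.Lib.S02.S02Defs

/-! S4402 design (helper12), piece MCARD.  See plans/S4402_plan.md. -/

set_option autoImplicit false

namespace Cfsg.Agent.Helper12.S02

open Subgroup

/-- image of a subgroup under an injective hom has the same order -/
theorem s02_mcard_map {S : Type*} [Group S] {φ : W3 →* S} (hinj : Function.Injective φ)
    (H : Subgroup W3) : Nat.card ↥(H.map φ) = Nat.card ↥H :=
  (Nat.card_congr (Subgroup.equivMapOfInjective H φ hinj).toEquiv).symm

set_option maxRecDepth 1000000 in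
theorem s02_mcard_W3 : Fintype.card W3 = 128 := by decide +kernel

set_option maxRecDepth 1000000 in
theorem s02_mcard_B0 : Fintype.card {g : W3 // g ∈ B0} = 64 := by
  rw [Fintype.card_subtype]; decide +kernel

set_option maxRecDepth 1000000 in
theorem s02_mcard_W0 : Fintype.card {g : W3 // g ∈ W0} = 4 := by
  rw [Fintype.card_subtype]; decide +kernel

set_option maxRecDepth 1000000 in
theorem s02_mcard_Z0 : Fintype.card {g : W3 // g ∈ Z0} = 2 := by
  rw [Fintype.card_subtype]; decide +kernel

set_option maxRecDepth 1000000 in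
theorem s02_mcard_V10 : Fintype.card {g : W3 // g ∈ V10} = 16 := by
  rw [Fintype.card_subtype]; decide +kernel

set_option maxRecDepth 1000000 in
theorem s02_mcard_V20 : Fintype.card {g : W3 // g ∈ V20} = 16 := by
  rw [Fintype.card_subtype]; decide +kernel

/-- orders of the model subgroups.  (Each is the image of a subgroup of `W3` under the injective
`φ`; the orders in `W3` by `decide`, e.g. `Nat.card ↥V10 = Fintype.card {g // g ∈ V10}`.) -/
theorem card_facts {S : Type*} [Group S] {P : Subgroup S} {φ : W3 →* S} (hφ : WD P φ) :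
    Nat.card ↥P = 128 ∧ Nat.card ↥(Bs φ) = 64 ∧ Nat.card ↥(Ws φ) = 4 ∧ Nat.card ↥(Zs φ) = 2 ∧
      Nat.card ↥(V1s φ) = 16 ∧ Nat.card ↥(V2s φ) = 16 := by
  refine ⟨?_, ?_, ?_, ?_, ?_, ?_⟩
  · rw [← hφ.range_eq, ← Nat.card_congr (MonoidHom.ofInjective hφ.inj).toEquiv,
      Nat.card_eq_fintype_card, s02_mcard_W3]
  · show Nat.card ↥(B0.map φ) = 64
    rw [s02_mcard_map hφ.inj, Nat.card_eq_fintype_card]
    exact s02_mcard_B0
  · show Nat.card ↥(W0.map φ) = 4
    rw [s02_mcard_map hφ.inj, Nat.card_eq_fintype_card]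
    exact s02_mcard_W0
  · show Nat.card ↥(Z0.map φ) = 2
    rw [s02_mcard_map hφ.inj, Nat.card_eq_fintype_card]
    exact s02_mcard_Z0
  · show Nat.card ↥(V10.map φ) = 16
    rw [s02_mcard_map hφ.inj, Nat.card_eq_fintype_card]
    exact s02_mcard_V10
  · show Nat.card ↥(V20.map φ) = 16
    rw [s02_mcard_map hφ.inj, Nat.card_eq_fintype_card]
    exact s02_mcard_V20

end Cfsg.Agent.Helper12.S02
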