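import Mathlib
import Cfsg.Agent.Lib.S02.S02Defs

/-! S4402 design (helper12), piece MCLS.  See plans/S4402_plan.md. -/

set_option autoImplicit false

namespace Cfsg.Agent.Helper12.S02

open Subgroup

set_option maxRecDepth 1000000 in
/-- an involution of `W3` commuting with all its conjugates lies in `V10` or `V20` -/
theorem s02_mcls_key0 : ∀ g : W3, g ^ 2 = 1 →
    g * (t0 * g * t0⁻¹) = (t0 * g * t0⁻¹) * g → g * (a0 * g * a0⁻¹) = (a0 * g * a0⁻¹) * g →
    g ∈ V10 ∨ g ∈ V20 := by
  decide +kernel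

theorem s02_mcls_key (g : W3) (h2 : g ^ 2 = 1)
    (hc : ∀ h : W3, g * (h * g * h⁻¹) = (h * g * h⁻¹) * g) : g ∈ V10 ∨ g ∈ V20 :=
  s02_mcls_key0 g h2 (hc t0) (hc a0)

set_option maxRecDepth 1000000 in
theorem s02_mcls_cardV1 : Fintype.card ↥V10 = 16 := by decide +kernel

set_option maxRecDepth 1000000 in
theorem s02_mcls_cardV2 : Fintype.card ↥V20 = 16 := by decide +kernel

/-- a subgroup inside the union of two subgroups lies in one of them -/
theorem s02_mcls_union {G : Type*} [Group G] (H K L : Subgroup G)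
    (h : ∀ x ∈ H, x ∈ K ∨ x ∈ L) : H ≤ K ∨ H ≤ L := by
  by_contra hcon
  rw [not_or] at hcon
  obtain ⟨h1, h2⟩ := hcon
  obtain ⟨x, hxH, hxK⟩ := SetLike.not_le_iff_exists.1 h1
  obtain ⟨y, hyH, hyL⟩ := SetLike.not_le_iff_exists.1 h2
  have hxL : x ∈ L := (h x hxH).resolve_left hxK
  have hyK : y ∈ K := (h y hyH).resolve_right hyL
  rcases h (x * y) (H.mul_mem hxH hyH) with hxy | hxy
  · apply hxK
    have e : x = (x * y) * y⁻¹ := by group
    rw [e]
    exact K.mul_mem hxy (K.inv_mem hyK)
  · apply hyL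
    have e : y = x⁻¹ * (x * y) := by group
    rw [e]
    exact L.mul_mem (L.inv_mem hxL) hxy

/-- CLASSIFICATION of the normal `E16`s of `P`.  Proof in `W3` (pull `V` back along `φ`):
(i) `V ≤ B`: for an involution `g ∉ B0`, `{h ∈ B0 | h * g = g * h ∧ h ^ 2 = 1}` has at most 6
elements (`decide`), but `V ∩ B` has at least 8 elements, all commuting with `g` and of order ≤ 2;
(ii) every `g ∈ B0` with `g ^ 2 = 1` commuting with all its `W3`-conjugates lies in `V10` or `V20`
(`decide`, guarded double quantifier); so `V ⊆ V10 ∪ V20`, hence `V ≤ V10` or `V ≤ V20` (a subgroup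
inside the union of two subgroups lies in one of them), and equality by order. -/
theorem cls {S : Type*} [Group S] {P : Subgroup S} {φ : W3 →* S} (hφ : WD P φ)
    (V : Subgroup S) (hVP : V ≤ P) (hn : ∀ g ∈ P, NormBy g V)
    (hab : ∀ x ∈ V, ∀ y ∈ V, x * y = y * x) (hexp : ∀ x ∈ V, x ^ 2 = 1)
    (hc : Nat.card ↥V = 16) : V = V1s φ ∨ V = V2s φ := by
  classical
  have hmap : (V.comap φ).map φ = V :=
    Subgroup.map_comap_eq_self (by rw [hφ.range_eq]; exact hVP)
  have hcard0 : Nat.card ↥(V.comap φ) = 16 := by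
    have h1 := Subgroup.card_map_of_injective (K := V.comap φ) hφ.inj
    rw [hmap] at h1
    rw [← h1]
    exact hc
  have hsub : ∀ g ∈ V.comap φ, g ∈ V10 ∨ g ∈ V20 := by
    intro g hg
    rw [Subgroup.mem_comap] at hg
    apply s02_mcls_key g
    · apply hφ.inj
      rw [map_pow, map_one]
      exact hexp _ hg
    · intro h
      apply hφ.inj
      have hP : φ h ∈ P := by
        rw [← hφ.range_eq]
        exact ⟨h, rfl⟩
      have hconj : φ (h * g * h⁻¹) ∈ V := by
        rw [map_mul, map_mul, map_inv]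
        exact hn (φ h) hP (φ g) hg
      rw [map_mul φ g (h * g * h⁻¹), map_mul φ (h * g * h⁻¹) g]
      exact hab _ hg _ hconj
  rcases s02_mcls_union (V.comap φ) V10 V20 hsub with hle | hle
  · left
    have heq : V.comap φ = V10 :=
      Subgroup.eq_of_le_of_card_ge hle
        (by rw [hcard0, Nat.card_eq_fintype_card, s02_mcls_cardV1])
    show V = V10.map φ
    rw [← heq]
    exact hmap.symm
  · right
    have heq : V.comap φ = V20 :=
      Subgroup.eq_of_le_of_card_ge hle
        (by rw [hcard0, Nat.card_eq_fintype_card, s02_mcls_cardV2])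
    show V = V20.map φ
    rw [← heq]
    exact hmap.symm

end Cfsg.Agent.Helper12.S02
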