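import Mathlib
import Cfsg.Agent.Lib.S02.S02Defs

/-! S4402 design (helper12), piece MLE.  See plans/S4402_plan.md.  Proved by helper4. -/

set_option autoImplicit false

namespace Cfsg.Agent.Helper12.S02

open Subgroup

set_option maxRecDepth 100000 in
theorem s02_mle_ZW : ∀ g : W3, g ∈ Z0 → g ∈ W0 := by decide +kernel

set_option maxRecDepth 100000 in
theorem s02_mle_WV1 : ∀ g : W3, g ∈ W0 → g ∈ V10 := by decide +kernel

set_option maxRecDepth 100000 in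
theorem s02_mle_WV2 : ∀ g : W3, g ∈ W0 → g ∈ V20 := by decide +kernel

set_option maxRecDepth 100000 in
theorem s02_mle_V1B : ∀ g : W3, g ∈ V10 → g ∈ B0 := by decide +kernel

set_option maxRecDepth 100000 in
theorem s02_mle_V2B : ∀ g : W3, g ∈ V20 → g ∈ B0 := by decide +kernel

set_option maxRecDepth 100000 in
theorem s02_mle_inf : ∀ g : W3, g ∈ V10 → g ∈ V20 → g ∈ W0 := by decide +kernel

set_option maxRecDepth 1000000 in
theorem s02_mle_sup : ∀ g : W3, g ∈ B0 → ∃ v : W3, v ∈ V10 ∧ v⁻¹ * g ∈ V20 := by decide +kernel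

/-- inclusions between the model subgroups, `V₁ ∩ V₂ = W`, `V₁ V₂ = B` -/
theorem le_facts {S : Type*} [Group S] {P : Subgroup S} {φ : W3 →* S} (hφ : WD P φ) :
    Zs φ ≤ Ws φ ∧ Ws φ ≤ V1s φ ∧ Ws φ ≤ V2s φ ∧ V1s φ ≤ Bs φ ∧ V2s φ ≤ Bs φ ∧ Bs φ ≤ P ∧
      V1s φ ⊓ V2s φ = Ws φ ∧ V1s φ ⊔ V2s φ = Bs φ := by
  have h1 : Z0 ≤ W0 := fun g hg => s02_mle_ZW g hg
  have h2 : W0 ≤ V10 := fun g hg => s02_mle_WV1 g hg
  have h3 : W0 ≤ V20 := fun g hg => s02_mle_WV2 g hg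
  have h4 : V10 ≤ B0 := fun g hg => s02_mle_V1B g hg
  have h5 : V20 ≤ B0 := fun g hg => s02_mle_V2B g hg
  have h6 : V10 ⊓ V20 = W0 := by
    apply le_antisymm
    · intro g hg
      exact s02_mle_inf g hg.1 hg.2
    · exact le_inf h2 h3
  have h7 : V10 ⊔ V20 = B0 := by
    apply le_antisymm
    · exact sup_le h4 h5
    · intro g hg
      obtain ⟨v, hv1, hv2⟩ := s02_mle_sup g hg
      have e : g = v * (v⁻¹ * g) := by group
      rw [e]
      exact Subgroup.mul_mem_sup hv1 hv2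
  refine ⟨Subgroup.map_mono h1, Subgroup.map_mono h2, Subgroup.map_mono h3, Subgroup.map_mono h4,
    Subgroup.map_mono h5, ?_, ?_, ?_⟩
  · rw [← hφ.range_eq]
    rintro _ ⟨g, _, rfl⟩
    exact ⟨g, rfl⟩
  · show V10.map φ ⊓ V20.map φ = W0.map φ
    rw [← Subgroup.map_inf _ _ _ hφ.inj, h6]
  · show V10.map φ ⊔ V20.map φ = B0.map φ
    rw [← Subgroup.map_sup, h7]

end Cfsg.Agent.Helper12.S02
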