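import Mathlib
import Cfsg.Agent.Lib.S02.S02Defs

/-! S4402 design (helper12), piece MVPROP.  See plans/S4402_plan.md. -/

set_option autoImplicit false

namespace Cfsg.Agent.Helper12.S02

open Subgroup

set_option maxRecDepth 1000000 in
theorem mvprop_conj1 : ∀ v : W3, pV1 v = true → ∀ w : W3, pV1 (w * v * w⁻¹) = true := by
  decide +kernel

set_option maxRecDepth 1000000 in
theorem mvprop_conj2 : ∀ v : W3, pV2 v = true → ∀ w : W3, pV2 (w * v * w⁻¹) = true := by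
  decide +kernel

set_option maxRecDepth 1000000 in
theorem mvprop_comm1 : ∀ x : W3, pV1 x = true → ∀ y : W3, pV1 y = true → x * y = y * x := by
  decide +kernel

set_option maxRecDepth 1000000 in
theorem mvprop_comm2 : ∀ x : W3, pV2 x = true → ∀ y : W3, pV2 y = true → x * y = y * x := by
  decide +kernel

set_option maxRecDepth 1000000 in
theorem mvprop_sq1 : ∀ x : W3, pV1 x = true → x ^ 2 = 1 := by
  decide +kernel

set_option maxRecDepth 1000000 in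
theorem mvprop_sq2 : ∀ x : W3, pV2 x = true → x ^ 2 = 1 := by
  decide +kernel

theorem mvprop_b0_mem : pV1 b0 = true ∧ pV2 b0 = false := by decide +kernel

/-- `V₁`, `V₂` are distinct `P`-invariant elementary abelian subgroups -/
theorem v_props {S : Type*} [Group S] {P : Subgroup S} {φ : W3 →* S} (hφ : WD P φ) :
    (∀ g ∈ P, NormBy g (V1s φ)) ∧ (∀ g ∈ P, NormBy g (V2s φ)) ∧
    (∀ x ∈ V1s φ, ∀ y ∈ V1s φ, x * y = y * x) ∧ (∀ x ∈ V2s φ, ∀ y ∈ V2s φ, x * y = y * x) ∧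
    (∀ x ∈ V1s φ, x ^ 2 = 1) ∧ (∀ x ∈ V2s φ, x ^ 2 = 1) ∧ V1s φ ≠ V2s φ := by
  refine ⟨?_, ?_, ?_, ?_, ?_, ?_, ?_⟩
  · intro g hg x hx
    rw [← hφ.range_eq] at hg
    obtain ⟨w, rfl⟩ := hg
    obtain ⟨v, hv, rfl⟩ := hx
    refine ⟨w * v * w⁻¹, mvprop_conj1 v hv w, ?_⟩
    simp only [map_mul, map_inv]
  · intro g hg x hx
    rw [← hφ.range_eq] at hg
    obtain ⟨w, rfl⟩ := hg
    obtain ⟨v, hv, rfl⟩ := hx
    refine ⟨w * v * w⁻¹, mvprop_conj2 v hv w, ?_⟩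
    simp only [map_mul, map_inv]
  · rintro x ⟨v, hv, rfl⟩ y ⟨w, hw, rfl⟩
    rw [← map_mul, ← map_mul, mvprop_comm1 v hv w hw]
  · rintro x ⟨v, hv, rfl⟩ y ⟨w, hw, rfl⟩
    rw [← map_mul, ← map_mul, mvprop_comm2 v hv w hw]
  · rintro x ⟨v, hv, rfl⟩
    rw [← map_pow, mvprop_sq1 v hv, map_one]
  · rintro x ⟨v, hv, rfl⟩
    rw [← map_pow, mvprop_sq2 v hv, map_one]
  · intro hEq
    have h1 : φ b0 ∈ V1s φ := ⟨b0, mvprop_b0_mem.1, rfl⟩
    rw [hEq] at h1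
    obtain ⟨v, hv, hvb⟩ := h1
    have hvb' : v = b0 := hφ.inj hvb
    rw [hvb'] at hv
    have h2 : pV2 b0 = true := hv
    rw [mvprop_b0_mem.2] at h2
    exact Bool.noConfusion h2

end Cfsg.Agent.Helper12.S02
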