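import Mathlib
import Cfsg.Agent.Lib.S02.S02Defs
import Cfsg.Agent.Lib.S02.MCLS
import Cfsg.Agent.Lib.S02.MVPROP
import Cfsg.Agent.Lib.S02.MCARD
import Cfsg.Agent.Lib.S02.MLE
import Cfsg.Agent.Lib.S02.KINV

/-! S4402 design (helper12), piece KCONJ.  See plans/S4402_plan.md. -/

set_option autoImplicit false

namespace Cfsg.Agent.Helper12.S02

open Subgroup

/-- the conjugate by `y` of a normal `E16` of `P` is one of the two model subgroups -/
theorem s02_kconj_conj {S : Type*} [Group S] [Finite S] {P : Subgroup S} {φ : W3 →* S}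
    (hφ : WD P φ) (y : S) (hyP : NormBy y P) (V : Subgroup S) (hVP : V ≤ P)
    (hn : ∀ g ∈ P, NormBy g V) (hab : ∀ x ∈ V, ∀ z ∈ V, x * z = z * x)
    (hexp : ∀ x ∈ V, x ^ 2 = 1) (hc : Nat.card ↥V = 16) :
    V.map (MulAut.conj y).toMonoidHom = V1s φ ∨ V.map (MulAut.conj y).toMonoidHom = V2s φ := by
  apply cls hφ
  · rintro x ⟨v, hv, rfl⟩
    show y * v * y⁻¹ ∈ P
    exact hyP v (hVP hv)
  · intro g hg x hx
    obtain ⟨v, hv, rfl⟩ := hx
    have hg' : y⁻¹ * g * y⁻¹⁻¹ ∈ P := (normBy_inv hyP).1 g hg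
    refine ⟨(y⁻¹ * g * y⁻¹⁻¹) * v * (y⁻¹ * g * y⁻¹⁻¹)⁻¹, hn _ hg' v hv, ?_⟩
    show y * ((y⁻¹ * g * y⁻¹⁻¹) * v * (y⁻¹ * g * y⁻¹⁻¹)⁻¹) * y⁻¹ = g * (y * v * y⁻¹) * g⁻¹
    group
  · rintro x ⟨v, hv, rfl⟩ z ⟨v', hv', rfl⟩
    rw [← map_mul, ← map_mul, hab v hv v' hv']
  · rintro x ⟨v, hv, rfl⟩
    rw [← map_pow, hexp v hv, map_one]
  · rw [← hc]
    exact (Nat.card_congr
      (Subgroup.equivMapOfInjective V _ (MulAut.conj y).injective).toEquiv).symm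

/-- if `y` normalises `P` then `y V₁ y⁻¹` and `y V₂ y⁻¹` are normal `E16`s of `P`, hence (by `cls`)
each is `V₁` or `V₂`; conjugation being injective, `y` either fixes both or swaps them. -/
theorem fix_or_swap {S : Type*} [Group S] [Finite S] {P : Subgroup S} {φ : W3 →* S}
    (hφ : WD P φ) (y : S) (hyP : NormBy y P) :
    (NormBy y (V1s φ) ∧ NormBy y (V2s φ)) ∨
      ((∀ v ∈ V1s φ, y * v * y⁻¹ ∈ V2s φ) ∧ (∀ v ∈ V2s φ, y * v * y⁻¹ ∈ V1s φ)) := by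
  obtain ⟨hn1, hn2, hab1, hab2, he1, he2, hne⟩ := v_props hφ
  obtain ⟨_, _, _, hV1B, hV2B, hBP, _, _⟩ := le_facts hφ
  obtain ⟨_, _, _, _, hc1, hc2⟩ := card_facts hφ
  have h1 := s02_kconj_conj hφ y hyP (V1s φ) (hV1B.trans hBP) hn1 hab1 he1 hc1
  have h2 := s02_kconj_conj hφ y hyP (V2s φ) (hV2B.trans hBP) hn2 hab2 he2 hc2
  have hinj : (V1s φ).map (MulAut.conj y).toMonoidHom ≠
      (V2s φ).map (MulAut.conj y).toMonoidHom := by
    intro h
    exact hne (Subgroup.map_injective (MulAut.conj y).injective h)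
  have hmem : ∀ V : Subgroup S, ∀ v ∈ V, y * v * y⁻¹ ∈ V.map (MulAut.conj y).toMonoidHom :=
    fun V v hv => ⟨v, hv, rfl⟩
  rcases h1 with h1 | h1 <;> rcases h2 with h2 | h2
  · exact absurd (h1.trans h2.symm) hinj
  · left
    refine ⟨fun v hv => ?_, fun v hv => ?_⟩
    · rw [← h1]
      exact hmem _ v hv
    · rw [← h2]
      exact hmem _ v hv
  · right
    refine ⟨fun v hv => ?_, fun v hv => ?_⟩
    · rw [← h1]
      exact hmem _ v hv
    · rw [← h2]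
      exact hmem _ v hv
  · exact absurd (h1.trans h2.symm) hinj

end Cfsg.Agent.Helper12.S02
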