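import Mathlib
import Cfsg.Agent.Lib.S02.S02Defs
import Cfsg.Agent.Lib.S02.KCONJ
import Cfsg.Agent.Lib.S02.MLE

/-! S4402 design (helper12), piece KBW.  See plans/S4402_plan.md. -/

set_option autoImplicit false

namespace Cfsg.Agent.Helper12.S02

open Subgroup

/-- every `y` normalising `P` normalises `B = V₁ V₂` and `W = V₁ ∩ V₂` -/
theorem normBy_B_W {S : Type*} [Group S] [Finite S] {P : Subgroup S} {φ : W3 →* S}
    (hφ : WD P φ) (y : S) (hyP : NormBy y P) : NormBy y (Bs φ) ∧ NormBy y (Ws φ) := by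
  obtain ⟨_, _, _, _, _, _, hW, hB⟩ := le_facts hφ
  have key : ∀ (A1 A2 : Subgroup S), (∀ v ∈ V1s φ, y * v * y⁻¹ ∈ A1) →
      (∀ v ∈ V2s φ, y * v * y⁻¹ ∈ A2) → A1 ⊔ A2 = Bs φ → ∀ x ∈ Bs φ, y * x * y⁻¹ ∈ Bs φ := by
    intro A1 A2 h1 h2 hA x hx
    rw [← hB] at hx
    have h3 : (MulAut.conj y).toMonoidHom x ∈
        (V1s φ ⊔ V2s φ).map (MulAut.conj y).toMonoidHom := Subgroup.mem_map_of_mem _ hx
    rw [Subgroup.map_sup] at h3
    have h4 : (V1s φ).map (MulAut.conj y).toMonoidHom ⊔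
        (V2s φ).map (MulAut.conj y).toMonoidHom ≤ A1 ⊔ A2 := by
      apply sup_le_sup
      · rintro _ ⟨v, hv, rfl⟩
        exact h1 v hv
      · rintro _ ⟨v, hv, rfl⟩
        exact h2 v hv
    rw [← hA]
    exact h4 h3
  rcases fix_or_swap hφ y hyP with ⟨h1, h2⟩ | ⟨h1, h2⟩
  · refine ⟨key _ _ h1 h2 hB, ?_⟩
    intro x hx
    rw [← hW] at hx ⊢
    exact ⟨h1 x hx.1, h2 x hx.2⟩
  · refine ⟨key _ _ h1 h2 (by rw [sup_comm]; exact hB), ?_⟩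
    intro x hx
    rw [← hW] at hx ⊢
    exact ⟨h2 x hx.2, h1 x hx.1⟩

end Cfsg.Agent.Helper12.S02
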