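import Mathlib
import Cfsg.Agent.Lib.S02.S02Defs

/-! S4402 design (helper12), piece MFV1.  See plans/S4402_plan.md. -/

set_option autoImplicit false

namespace Cfsg.Agent.Helper12.S02

open Subgroup

set_option maxRecDepth 1000000 in
/-- the statement inside `W3` -/
theorem s02_mfv1_w3 : ∀ v0 : W3, v0 ∈ V10 → v0 ∉ W0 → ∀ h0 : W3, h0 ∈ B0 → h0 ^ 2 ≠ 1 →
    h0 * v0 = v0 * h0 → (b0⁻¹ * v0 ∈ W0 ∨ b0'⁻¹ * v0 ∈ W0) := by decide +kernel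

/-- the elements of `V₁ − W` centralised by an element of `B` of order 4 are those of `bW ∪ b'W`
(the elements of `bb'W` have centraliser `V₁` in `B`).  In `W3` by `decide +kernel`. -/
theorem f_v1 {S : Type*} [Group S] {P : Subgroup S} {φ : W3 →* S} (hφ : WD P φ)
    (v : S) (hv : v ∈ V1s φ) (hvW : v ∉ Ws φ)
    (hQ : ∃ h ∈ Bs φ, h ^ 2 ≠ 1 ∧ h * v = v * h) :
    (∃ w ∈ Ws φ, v = φ b0 * w) ∨ (∃ w ∈ Ws φ, v = φ b0' * w) := by
  obtain ⟨v0, hv0, rfl⟩ := hv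
  obtain ⟨h, ⟨h0, hh0, rfl⟩, hh2, hcomm⟩ := hQ
  have hv0W : v0 ∉ W0 := fun hw => hvW ⟨v0, hw, rfl⟩
  have hh02 : h0 ^ 2 ≠ 1 := by
    intro h1
    apply hh2
    rw [← map_pow, h1, map_one]
  have hc0 : h0 * v0 = v0 * h0 := by
    apply hφ.inj
    rw [map_mul, map_mul]
    exact hcomm
  rcases s02_mfv1_w3 v0 hv0 hv0W h0 hh0 hh02 hc0 with h1 | h1
  · left
    refine ⟨φ (b0⁻¹ * v0), ⟨_, h1, rfl⟩, ?_⟩
    rw [← map_mul]
    congr 1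
    group
  · right
    refine ⟨φ (b0'⁻¹ * v0), ⟨_, h1, rfl⟩, ?_⟩
    rw [← map_mul]
    congr 1
    group

end Cfsg.Agent.Helper12.S02
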