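import Mathlib
import Cfsg.Agent.Lib.S02.S02Defs

/-! S4402 design (helper12), piece MGEN.  See plans/S4402_plan.md. -/

set_option autoImplicit false

namespace Cfsg.Agent.Helper12.S02

open Subgroup

set_option maxRecDepth 1000000 in
theorem s02_mgen_B0_gen : ∀ g : W3, g ∈ B0 → ∃ i : Fin 4, ∃ j : Fin 2, ∃ k : Fin 4, ∃ l : Fin 2,
    g = a0 ^ (i : ℕ) * b0 ^ (j : ℕ) * a0' ^ (k : ℕ) * b0' ^ (l : ℕ) := by decide +kernel

set_option maxRecDepth 100000 in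
theorem s02_mgen_W0 : ∀ g : W3, g ∈ W0 ↔ (g = 1 ∨ g = z0 ∨ g = z0' ∨ g = z0 * z0') := by decide

set_option maxRecDepth 100000 in
theorem s02_mgen_Z0 : ∀ g : W3, g ∈ Z0 ↔ (g = 1 ∨ g = z0 * z0') := by decide

theorem s02_mgen_mem : a0 ∈ B0 ∧ b0 ∈ B0 ∧ a0' ∈ B0 ∧ b0' ∈ B0 ∧ b0 ∈ V10 ∧ b0' ∈ V10 ∧
    a0 * b0 ∈ V20 ∧ a0' * b0' ∈ V20 ∧ b0 ∉ W0 ∧ b0' ∉ W0 ∧ b0 * b0' ∉ W0 ∧ a0 * b0 ∉ W0 ∧
    a0' * b0' ∉ W0 ∧ a0 * b0 * (a0' * b0') ∉ W0 ∧ t0 ∉ B0 := by decide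

theorem s02_mgen_B0_eq : B0 = closure ({a0, b0, a0', b0'} : Set W3) := by
  obtain ⟨h1, h2, h3, h4, -⟩ := s02_mgen_mem
  apply le_antisymm
  · intro g hg
    obtain ⟨i, j, k, l, rfl⟩ := s02_mgen_B0_gen g hg
    have ha : a0 ∈ closure ({a0, b0, a0', b0'} : Set W3) := subset_closure (by simp)
    have hb : b0 ∈ closure ({a0, b0, a0', b0'} : Set W3) := subset_closure (by simp)
    have ha' : a0' ∈ closure ({a0, b0, a0', b0'} : Set W3) := subset_closure (by simp)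
    have hb' : b0' ∈ closure ({a0, b0, a0', b0'} : Set W3) := subset_closure (by simp)
    exact mul_mem (mul_mem (mul_mem (pow_mem ha _) (pow_mem hb _)) (pow_mem ha' _)) (pow_mem hb' _)
  · rw [closure_le]
    intro g hg
    simp only [Set.mem_insert_iff, Set.mem_singleton_iff] at hg
    rcases hg with rfl | rfl | rfl | rfl
    · exact h1
    · exact h2
    · exact h3
    · exact h4

theorem s02_mgen_not_mem {S : Type*} [Group S] {φ : W3 →* S} (hinj : Function.Injective φ)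
    (X : Subgroup W3) (g : W3) (hg : g ∉ X) : φ g ∉ X.map φ := by
  rintro ⟨x, hx, hxg⟩
  exact hg (hinj hxg ▸ hx)

/-- generators of `B`, the elements of `W` and `Z`, membership of the generators -/
theorem gen_facts {S : Type*} [Group S] {P : Subgroup S} {φ : W3 →* S} (hφ : WD P φ) :
    Bs φ = closure ({φ a0, φ b0, φ a0', φ b0'} : Set S) ∧
    (∀ w : S, w ∈ Ws φ ↔ (w = 1 ∨ w = φ z0 ∨ w = φ z0' ∨ w = φ z0 * φ z0')) ∧
    (∀ c : S, c ∈ Zs φ ↔ (c = 1 ∨ c = φ z0 * φ z0')) ∧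
    φ a0 ∈ Bs φ ∧ φ b0 ∈ Bs φ ∧ φ a0' ∈ Bs φ ∧ φ b0' ∈ Bs φ ∧
    φ b0 ∈ V1s φ ∧ φ b0' ∈ V1s φ ∧ φ a0 * φ b0 ∈ V2s φ ∧ φ a0' * φ b0' ∈ V2s φ ∧
    φ b0 ∉ Ws φ ∧ φ b0' ∉ Ws φ ∧ φ b0 * φ b0' ∉ Ws φ ∧ φ a0 * φ b0 ∉ Ws φ ∧
    φ a0' * φ b0' ∉ Ws φ ∧ φ a0 * φ b0 * (φ a0' * φ b0') ∉ Ws φ ∧ φ t0 ∈ P ∧ φ t0 ∉ Bs φ := by
  obtain ⟨h1, h2, h3, h4, h5, h6, h7, h8, h9, h10, h11, h12, h13, h14, h15⟩ := s02_mgen_mem
  have hinj := hφ.inj
  refine ⟨?_, ?_, ?_, mem_map_of_mem φ h1, mem_map_of_mem φ h2, mem_map_of_mem φ h3,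
    mem_map_of_mem φ h4, mem_map_of_mem φ h5, mem_map_of_mem φ h6, ?_, ?_,
    s02_mgen_not_mem hinj W0 _ h9, s02_mgen_not_mem hinj W0 _ h10, ?_, ?_, ?_, ?_, ?_,
    s02_mgen_not_mem hinj B0 _ h15⟩
  · rw [Bs, s02_mgen_B0_eq, MonoidHom.map_closure]
    congr 1
    ext x
    simp only [Set.mem_image, Set.mem_insert_iff, Set.mem_singleton_iff]
    constructor
    · rintro ⟨g, hg, rfl⟩
      rcases hg with rfl | rfl | rfl | rfl <;> simp
    · rintro (rfl | rfl | rfl | rfl)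
      · exact ⟨a0, by simp, rfl⟩
      · exact ⟨b0, by simp, rfl⟩
      · exact ⟨a0', by simp, rfl⟩
      · exact ⟨b0', by simp, rfl⟩
  · intro w
    constructor
    · rintro ⟨g, hg, rfl⟩
      rcases (s02_mgen_W0 g).mp hg with rfl | rfl | rfl | rfl
      · left; exact map_one φ
      · right; left; rfl
      · right; right; left; rfl
      · right; right; right; exact map_mul φ _ _
    · rintro (rfl | rfl | rfl | rfl)
      · exact Subgroup.one_mem _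
      · exact mem_map_of_mem φ ((s02_mgen_W0 z0).mpr (by simp))
      · exact mem_map_of_mem φ ((s02_mgen_W0 z0').mpr (by simp))
      · rw [← map_mul]
        exact mem_map_of_mem φ ((s02_mgen_W0 (z0 * z0')).mpr (by simp))
  · intro c
    constructor
    · rintro ⟨g, hg, rfl⟩
      rcases (s02_mgen_Z0 g).mp hg with rfl | rfl
      · left; exact map_one φ
      · right; exact map_mul φ _ _
    · rintro (rfl | rfl)
      · exact Subgroup.one_mem _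
      · rw [← map_mul]
        exact mem_map_of_mem φ ((s02_mgen_Z0 (z0 * z0')).mpr (by simp))
  · rw [← map_mul]; exact mem_map_of_mem φ h7
  · rw [← map_mul]; exact mem_map_of_mem φ h8
  · rw [← map_mul]; exact s02_mgen_not_mem hinj W0 _ h11
  · rw [← map_mul]; exact s02_mgen_not_mem hinj W0 _ h12
  · rw [← map_mul]; exact s02_mgen_not_mem hinj W0 _ h13
  · rw [← map_mul, ← map_mul, ← map_mul]; exact s02_mgen_not_mem hinj W0 _ h14
  · rw [← hφ.range_eq]; exact ⟨t0, rfl⟩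

end Cfsg.Agent.Helper12.S02
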