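import Mathlib
import Cfsg.Agent.Lib.S02.S02Defs

/-! S4402 design (helper12), piece MREL.  See plans/S4402_plan.md. -/

set_option autoImplicit false

namespace Cfsg.Agent.Helper12.S02

open Subgroup

/-- the defining relations of the model elements, transported to `S`
(`a = φ a0`, `b = φ b0`, `a' = φ a0'`, `b' = φ b0'`, `t = φ t0`, `z = φ z0 = a²`, `z' = φ z0' = a'²`).
Pattern: `have := congrArg φ (show b0 * a0 * b0⁻¹ = a0⁻¹ by decide)`, then `simp [map_mul]`. -/
theorem rel_facts {S : Type*} [Group S] {P : Subgroup S} {φ : W3 →* S} (hφ : WD P φ) :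
    φ a0 ^ 4 = 1 ∧ φ a0 ^ 2 = φ z0 ∧ φ b0 ^ 2 = 1 ∧ φ b0 * φ a0 * (φ b0)⁻¹ = (φ a0)⁻¹ ∧
    φ a0' ^ 4 = 1 ∧ φ a0' ^ 2 = φ z0' ∧ φ b0' ^ 2 = 1 ∧ φ b0' * φ a0' * (φ b0')⁻¹ = (φ a0')⁻¹ ∧
    φ t0 ^ 2 = 1 ∧ φ t0 * φ a0 * (φ t0)⁻¹ = φ a0' ∧ φ t0 * φ b0 * (φ t0)⁻¹ = φ b0' ∧
    φ t0 * φ a0' * (φ t0)⁻¹ = φ a0 ∧ φ t0 * φ b0' * (φ t0)⁻¹ = φ b0 ∧
    φ a0 * φ a0' = φ a0' * φ a0 ∧ φ a0 * φ b0' = φ b0' * φ a0 ∧ φ b0 * φ a0' = φ a0' * φ b0 ∧
    φ b0 * φ b0' = φ b0' * φ b0 ∧ φ z0 ≠ 1 ∧ φ z0' ≠ 1 ∧ φ z0 ≠ φ z0' ∧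
    φ a0 * φ b0 * φ b0 ≠ φ b0 * (φ a0 * φ b0) ∧
    φ a0' * φ b0' * φ b0' ≠ φ b0' * (φ a0' * φ b0') := by
  refine ⟨?_, ?_, ?_, ?_, ?_, ?_, ?_, ?_, ?_, ?_, ?_, ?_, ?_, ?_, ?_, ?_, ?_, ?_, ?_, ?_, ?_, ?_⟩
  · have := congrArg φ (show a0 ^ 4 = 1 by decide)
    simpa only [map_pow, map_one] using this
  · have := congrArg φ (show a0 ^ 2 = z0 by decide)
    simpa only [map_pow] using this
  · have := congrArg φ (show b0 ^ 2 = 1 by decide)
    simpa only [map_pow, map_one] using this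
  · have := congrArg φ (show b0 * a0 * b0⁻¹ = a0⁻¹ by decide)
    simpa only [map_mul, map_inv] using this
  · have := congrArg φ (show a0' ^ 4 = 1 by decide)
    simpa only [map_pow, map_one] using this
  · have := congrArg φ (show a0' ^ 2 = z0' by decide)
    simpa only [map_pow] using this
  · have := congrArg φ (show b0' ^ 2 = 1 by decide)
    simpa only [map_pow, map_one] using this
  · have := congrArg φ (show b0' * a0' * b0'⁻¹ = a0'⁻¹ by decide)
    simpa only [map_mul, map_inv] using this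
  · have := congrArg φ (show t0 ^ 2 = 1 by decide)
    simpa only [map_pow, map_one] using this
  · have := congrArg φ (show t0 * a0 * t0⁻¹ = a0' by decide)
    simpa only [map_mul, map_inv] using this
  · have := congrArg φ (show t0 * b0 * t0⁻¹ = b0' by decide)
    simpa only [map_mul, map_inv] using this
  · have := congrArg φ (show t0 * a0' * t0⁻¹ = a0 by decide)
    simpa only [map_mul, map_inv] using this
  · have := congrArg φ (show t0 * b0' * t0⁻¹ = b0 by decide)
    simpa only [map_mul, map_inv] using this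
  · have := congrArg φ (show a0 * a0' = a0' * a0 by decide)
    simpa only [map_mul] using this
  · have := congrArg φ (show a0 * b0' = b0' * a0 by decide)
    simpa only [map_mul] using this
  · have := congrArg φ (show b0 * a0' = a0' * b0 by decide)
    simpa only [map_mul] using this
  · have := congrArg φ (show b0 * b0' = b0' * b0 by decide)
    simpa only [map_mul] using this
  · intro h
    exact absurd (hφ.inj (h.trans (map_one φ).symm)) (by decide)
  · intro h
    exact absurd (hφ.inj (h.trans (map_one φ).symm)) (by decide)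
  · intro h
    exact absurd (hφ.inj h) (by decide)
  · intro h
    have h' : φ (a0 * b0 * b0) = φ (b0 * (a0 * b0)) := by simpa only [map_mul] using h
    exact absurd (hφ.inj h') (by decide)
  · intro h
    have h' : φ (a0' * b0' * b0') = φ (b0' * (a0' * b0')) := by simpa only [map_mul] using h
    exact absurd (hφ.inj h') (by decide)

end Cfsg.Agent.Helper12.S02
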