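import Mathlib
import Cfsg.Agent.Lib.S02.S02Defs

/-! S4402 design (helper12), piece MWCEN.  See plans/S4402_plan.md. -/

set_option autoImplicit false

namespace Cfsg.Agent.Helper12.S02

open Subgroup

set_option maxRecDepth 1000000 in
theorem s02_mwcen_comm : ∀ w : W3, w ∈ W0 → ∀ g : W3, g ∈ B0 → w * g = g * w := by
  decide +kernel

set_option maxRecDepth 100000 in
theorem s02_mwcen_sq : ∀ w : W3, w ∈ W0 → w ^ 2 = 1 := by decide

set_option maxRecDepth 100000 in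
theorem s02_mwcen_sqmem : ∀ g : W3, g ∈ B0 → g ^ 2 ∈ W0 := by decide

/-- `W` is central in `B` of exponent 2 and contains all squares of `B` -/
theorem w_central {S : Type*} [Group S] {P : Subgroup S} {φ : W3 →* S} (hφ : WD P φ) :
    (∀ w ∈ Ws φ, ∀ g ∈ Bs φ, w * g = g * w) ∧ (∀ w ∈ Ws φ, w ^ 2 = 1) ∧
      (∀ g ∈ Bs φ, g ^ 2 ∈ Ws φ) := by
  refine ⟨?_, ?_, ?_⟩
  · rintro w ⟨w0, hw0, rfl⟩ g ⟨g0, hg0, rfl⟩
    rw [← map_mul, ← map_mul, s02_mwcen_comm w0 hw0 g0 hg0]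
  · rintro w ⟨w0, hw0, rfl⟩
    rw [← map_pow, s02_mwcen_sq w0 hw0, map_one]
  · rintro g ⟨g0, hg0, rfl⟩
    rw [← map_pow]
    exact ⟨g0 ^ 2, s02_mwcen_sqmem g0 hg0, rfl⟩

end Cfsg.Agent.Helper12.S02
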