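import Mathlib
import Cfsg.Agent.Lib.S02.S02Defs
import Cfsg.Agent.Lib.S02.MFV1
import Cfsg.Agent.Lib.S02.MGEN
import Cfsg.Agent.Lib.S02.MREL
import Cfsg.Agent.Lib.S02.MWCEN
import Cfsg.Agent.Lib.S02.KBW
import Cfsg.Agent.Lib.S02.KINV
import Cfsg.Agent.Lib.S02.MLE

/-! S4402 design (helper12), piece CF1.  See plans/S4402_plan.md. -/

set_option autoImplicit false

namespace Cfsg.Agent.Helper12.S02

open Subgroup

/-- `y` fixes `V₁`, `V₂`: then `y b y⁻¹, y b' y⁻¹ ∈ V₁ − W` are centralised by elements of order 4 of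
`B` (`y a' y⁻¹`, resp. `y a y⁻¹`), so lie in `bW ∪ b'W` (`f_v1`); they lie in different classes
(else `y (b b') y⁻¹ ∈ W`, but `b b' ∉ W`).  So `u = y` or `u = y t` has `u b u⁻¹ ∈ bW`,
`u b' u⁻¹ ∈ b'W` (recall `t b t⁻¹ = b'`, `t b' t⁻¹ = b`). -/
theorem fix_choose {S : Type*} [Group S] [Finite S] {P : Subgroup S} {φ : W3 →* S}
    (hφ : WD P φ) (y : S) (hyP : NormBy y P) (h1 : NormBy y (V1s φ)) (h2 : NormBy y (V2s φ)) :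
    ∃ u : S, (u = y ∨ u = y * φ t0) ∧ (∃ w ∈ Ws φ, u * φ b0 * u⁻¹ = φ b0 * w) ∧
      (∃ w ∈ Ws φ, u * φ b0' * u⁻¹ = φ b0' * w) := by
  obtain ⟨-, -, -, haB, hbB, ha'B, hb'B, hbV1, hb'V1, -, -, hbW, hb'W, hbb'W, -, -, -, -, -⟩ :=
    gen_facts hφ
  obtain ⟨-, ha2, hb2, -, -, ha'2, hb'2, -, ht2, -, htb, -, htb', -, hab', hba', hbb', hz1, hz'1,
    -, -, -⟩ := rel_facts hφ
  obtain ⟨hWc, hW2, -⟩ := w_central hφ
  obtain ⟨hyB, hyW⟩ := normBy_B_W hφ y hyP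
  have hyWiff := (normBy_inv hyW).2
  have hV1B : V1s φ ≤ Bs φ := (le_facts hφ).2.2.2.1
  -- the two conjugates
  have hv1 : y * φ b0 * y⁻¹ ∈ V1s φ := h1 _ hbV1
  have hv1' : y * φ b0' * y⁻¹ ∈ V1s φ := h1 _ hb'V1
  have hvW : y * φ b0 * y⁻¹ ∉ Ws φ := fun h => hbW ((hyWiff _).mp h)
  have hvW' : y * φ b0' * y⁻¹ ∉ Ws φ := fun h => hb'W ((hyWiff _).mp h)
  have hQ : ∃ h ∈ Bs φ, h ^ 2 ≠ 1 ∧ h * (y * φ b0 * y⁻¹) = (y * φ b0 * y⁻¹) * h := by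
    refine ⟨y * φ a0' * y⁻¹, hyB _ ha'B, ?_, ?_⟩
    · intro h
      apply hz'1
      have e : (y * φ a0' * y⁻¹) ^ 2 = y * (φ a0' ^ 2) * y⁻¹ := by
        rw [pow_two, pow_two]; group
      rw [e, ha'2] at h
      have e2 : φ z0' = y⁻¹ * (y * φ z0' * y⁻¹) * y := by group
      rw [e2, h]; group
    · have e1 : y * φ a0' * y⁻¹ * (y * φ b0 * y⁻¹) = y * (φ a0' * φ b0) * y⁻¹ := by group
      have e2 : y * φ b0 * y⁻¹ * (y * φ a0' * y⁻¹) = y * (φ b0 * φ a0') * y⁻¹ := by group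
      rw [e1, e2, hba']
  have hQ' : ∃ h ∈ Bs φ, h ^ 2 ≠ 1 ∧ h * (y * φ b0' * y⁻¹) = (y * φ b0' * y⁻¹) * h := by
    refine ⟨y * φ a0 * y⁻¹, hyB _ haB, ?_, ?_⟩
    · intro h
      apply hz1
      have e : (y * φ a0 * y⁻¹) ^ 2 = y * (φ a0 ^ 2) * y⁻¹ := by
        rw [pow_two, pow_two]; group
      rw [e, ha2] at h
      have e2 : φ z0 = y⁻¹ * (y * φ z0 * y⁻¹) * y := by group
      rw [e2, h]; group
    · have e1 : y * φ a0 * y⁻¹ * (y * φ b0' * y⁻¹) = y * (φ a0 * φ b0') * y⁻¹ := by group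
      have e2 : y * φ b0' * y⁻¹ * (y * φ a0 * y⁻¹) = y * (φ b0' * φ a0) * y⁻¹ := by group
      rw [e1, e2, hab']
  have hcl := f_v1 hφ _ hv1 hvW hQ
  have hcl' := f_v1 hφ _ hv1' hvW' hQ'
  -- the product of the two conjugates is not in `W`
  have hprod : (y * φ b0 * y⁻¹) * (y * φ b0' * y⁻¹) ∉ Ws φ := by
    intro h
    apply hbb'W
    have e : (y * φ b0 * y⁻¹) * (y * φ b0' * y⁻¹) = y * (φ b0 * φ b0') * y⁻¹ := by group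
    rw [e] at h
    exact (hyWiff _).mp h
  rcases hcl with ⟨w1, hw1, e1⟩ | ⟨w1, hw1, e1⟩ <;> rcases hcl' with ⟨w2, hw2, e2⟩ | ⟨w2, hw2, e2⟩
  · -- both in `bW`
    exfalso
    apply hprod
    rw [e1, e2]
    have hc : w1 * φ b0 = φ b0 * w1 := hWc w1 hw1 _ hbB
    have e : φ b0 * w1 * (φ b0 * w2) = φ b0 ^ 2 * (w1 * w2) := by
      rw [pow_two, mul_assoc (φ b0) w1, ← mul_assoc w1, hc]; group
    rw [e, hb2, one_mul]
    exact (Ws φ).mul_mem hw1 hw2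
  · exact ⟨y, Or.inl rfl, ⟨w1, hw1, e1⟩, ⟨w2, hw2, e2⟩⟩
  · refine ⟨y * φ t0, Or.inr rfl, ⟨w2, hw2, ?_⟩, ⟨w1, hw1, ?_⟩⟩
    · have e : y * φ t0 * φ b0 * (y * φ t0)⁻¹ = y * (φ t0 * φ b0 * (φ t0)⁻¹) * y⁻¹ := by group
      rw [e, htb, e2]
    · have e : y * φ t0 * φ b0' * (y * φ t0)⁻¹ = y * (φ t0 * φ b0' * (φ t0)⁻¹) * y⁻¹ := by group
      rw [e, htb', e1]
  · -- both in `b'W`
    exfalso
    apply hprod
    rw [e1, e2]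
    have hc : w1 * φ b0' = φ b0' * w1 := hWc w1 hw1 _ hb'B
    have e : φ b0' * w1 * (φ b0' * w2) = φ b0' ^ 2 * (w1 * w2) := by
      rw [pow_two, mul_assoc (φ b0') w1, ← mul_assoc w1, hc]; group
    rw [e, hb'2, one_mul]
    exact (Ws φ).mul_mem hw1 hw2

end Cfsg.Agent.Helper12.S02
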