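import Mathlib
import Cfsg.Agent.Lib.S02.S02Defs

/-! S4402 design (helper12), piece MFV2.  See plans/S4402_plan.md. -/

set_option autoImplicit false

namespace Cfsg.Agent.Helper12.S02

open Subgroup

set_option maxRecDepth 1000000 in
/-- the `W3`-level fact behind `f_v2` -/
theorem s02_mfv2_W3 : ∀ g : W3, g ∈ V20 → g ∉ W0 → ∀ k : W3, k ∈ B0 → k ^ 2 ≠ 1 → k * g = g * k →
    (∃ w ∈ W0, g = a0 * b0 * w) ∨ (∃ w ∈ W0, g = a0' * b0' * w) := by decide +kernel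

/-- the elements of `V₂ − W` centralised by an element of `B` of order 4 are those of
`abW ∪ a'b'W`.  In `W3` by `decide +kernel`. -/
theorem f_v2 {S : Type*} [Group S] {P : Subgroup S} {φ : W3 →* S} (hφ : WD P φ)
    (v : S) (hv : v ∈ V2s φ) (hvW : v ∉ Ws φ)
    (hQ : ∃ h ∈ Bs φ, h ^ 2 ≠ 1 ∧ h * v = v * h) :
    (∃ w ∈ Ws φ, v = φ a0 * φ b0 * w) ∨ (∃ w ∈ Ws φ, v = φ a0' * φ b0' * w) := by
  obtain ⟨g, hg, rfl⟩ := hv
  obtain ⟨h, ⟨k, hk, rfl⟩, hh2, hcomm⟩ := hQ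
  have hgW : g ∉ W0 := fun hgW => hvW ⟨g, hgW, rfl⟩
  have hk2 : k ^ 2 ≠ 1 := by
    intro h1
    apply hh2
    rw [← map_pow, h1, map_one]
  have hkg : k * g = g * k := by
    apply hφ.inj
    rw [map_mul, map_mul]
    exact hcomm
  rcases s02_mfv2_W3 g hg hgW k hk hk2 hkg with ⟨w, hw, hgw⟩ | ⟨w, hw, hgw⟩
  · left
    refine ⟨φ w, ⟨w, hw, rfl⟩, ?_⟩
    rw [hgw, map_mul, map_mul]
  · right
    refine ⟨φ w, ⟨w, hw, rfl⟩, ?_⟩
    rw [hgw, map_mul, map_mul]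

end Cfsg.Agent.Helper12.S02
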