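import Mathlib
import Cfsg.Agent.Lib.S02.S02Defs
import Cfsg.Agent.Lib.S02.MFV2
import Cfsg.Agent.Lib.S02.MGEN
import Cfsg.Agent.Lib.S02.MREL
import Cfsg.Agent.Lib.S02.MWCEN
import Cfsg.Agent.Lib.S02.KBW
import Cfsg.Agent.Lib.S02.KINV
import Cfsg.Agent.Lib.S02.MLE

/-! S4402 design (helper12), piece CF2.  See plans/S4402_plan.md. -/

set_option autoImplicit false

namespace Cfsg.Agent.Helper12.S02

open Subgroup

/-- `u` fixes `V₁`, `V₂`, `u b u⁻¹ ∈ bW`, `u b' u⁻¹ ∈ b'W`: then `u (ab) u⁻¹ ∈ V₂ − W` is centralised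
by `u a' u⁻¹` (order 4), so lies in `abW ∪ a'b'W` (`f_v2`); it does not commute with
`u b u⁻¹ ∈ bW` (as `ab`, `b` do not commute) while `a'b'W` does; so `u (ab) u⁻¹ ∈ abW`. Same primed. -/
theorem fix_ab {S : Type*} [Group S] [Finite S] {P : Subgroup S} {φ : W3 →* S}
    (hφ : WD P φ) (u : S) (huP : NormBy u P) (h1 : NormBy u (V1s φ)) (h2 : NormBy u (V2s φ))
    (hb : ∃ w ∈ Ws φ, u * φ b0 * u⁻¹ = φ b0 * w)
    (hb' : ∃ w ∈ Ws φ, u * φ b0' * u⁻¹ = φ b0' * w) :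
    (∃ w ∈ Ws φ, u * (φ a0 * φ b0) * u⁻¹ = φ a0 * φ b0 * w) ∧
      (∃ w ∈ Ws φ, u * (φ a0' * φ b0') * u⁻¹ = φ a0' * φ b0' * w) := by
  obtain ⟨-, -, -, haB, hbB, ha'B, hb'B, -, -, habV2, ha'b'V2, -, -, -, habW, ha'b'W, -, -, -⟩ :=
    gen_facts hφ
  obtain ⟨-, ha2, -, -, -, ha'2, -, -, -, -, -, -, -, haa', hab', hba', hbb', hz1, hz'1,
    -, hne, hne'⟩ := rel_facts hφ
  obtain ⟨hWc, -, -⟩ := w_central hφ
  obtain ⟨huB, huW⟩ := normBy_B_W hφ u huP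
  have huWiff := (normBy_inv huW).2
  have hWB : Ws φ ≤ Bs φ := le_trans (le_facts hφ).2.1 (le_facts hφ).2.2.2.1
  obtain ⟨wb, hwb, eb⟩ := hb
  obtain ⟨wb', hwb', eb'⟩ := hb'
  -- the two conjugates
  have hv : u * (φ a0 * φ b0) * u⁻¹ ∈ V2s φ := h2 _ habV2
  have hv' : u * (φ a0' * φ b0') * u⁻¹ ∈ V2s φ := h2 _ ha'b'V2
  have hvW : u * (φ a0 * φ b0) * u⁻¹ ∉ Ws φ := fun h => habW ((huWiff _).mp h)
  have hvW' : u * (φ a0' * φ b0') * u⁻¹ ∉ Ws φ := fun h => ha'b'W ((huWiff _).mp h)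
  have hQ : ∃ h ∈ Bs φ, h ^ 2 ≠ 1 ∧
      h * (u * (φ a0 * φ b0) * u⁻¹) = (u * (φ a0 * φ b0) * u⁻¹) * h := by
    refine ⟨u * φ a0' * u⁻¹, huB _ ha'B, ?_, ?_⟩
    · intro h
      apply hz'1
      have e : (u * φ a0' * u⁻¹) ^ 2 = u * (φ a0' ^ 2) * u⁻¹ := by
        rw [pow_two, pow_two]; group
      rw [e, ha'2] at h
      have e2 : φ z0' = u⁻¹ * (u * φ z0' * u⁻¹) * u := by group
      rw [e2, h]; group
    · have e1 : u * φ a0' * u⁻¹ * (u * (φ a0 * φ b0) * u⁻¹) = u * (φ a0' * (φ a0 * φ b0)) * u⁻¹ := by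
        group
      have e2 : u * (φ a0 * φ b0) * u⁻¹ * (u * φ a0' * u⁻¹) = u * ((φ a0 * φ b0) * φ a0') * u⁻¹ := by
        group
      have c1 : Commute (φ a0') (φ a0) := haa'.symm
      have c2 : Commute (φ a0') (φ b0) := hba'.symm
      have c3 : φ a0' * (φ a0 * φ b0) = (φ a0 * φ b0) * φ a0' := c1.mul_right c2
      rw [e1, e2, c3]
  have hQ' : ∃ h ∈ Bs φ, h ^ 2 ≠ 1 ∧
      h * (u * (φ a0' * φ b0') * u⁻¹) = (u * (φ a0' * φ b0') * u⁻¹) * h := by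
    refine ⟨u * φ a0 * u⁻¹, huB _ haB, ?_, ?_⟩
    · intro h
      apply hz1
      have e : (u * φ a0 * u⁻¹) ^ 2 = u * (φ a0 ^ 2) * u⁻¹ := by
        rw [pow_two, pow_two]; group
      rw [e, ha2] at h
      have e2 : φ z0 = u⁻¹ * (u * φ z0 * u⁻¹) * u := by group
      rw [e2, h]; group
    · have e1 : u * φ a0 * u⁻¹ * (u * (φ a0' * φ b0') * u⁻¹) = u * (φ a0 * (φ a0' * φ b0')) * u⁻¹ := by
        group
      have e2 : u * (φ a0' * φ b0') * u⁻¹ * (u * φ a0 * u⁻¹) = u * ((φ a0' * φ b0') * φ a0) * u⁻¹ := by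
        group
      have c1 : Commute (φ a0) (φ a0') := haa'
      have c2 : Commute (φ a0) (φ b0') := hab'
      have c3 : φ a0 * (φ a0' * φ b0') = (φ a0' * φ b0') * φ a0 := c1.mul_right c2
      rw [e1, e2, c3]
  have hcl := f_v2 hφ _ hv hvW hQ
  have hcl' := f_v2 hφ _ hv' hvW' hQ'
  constructor
  · rcases hcl with h | ⟨w, hw, e⟩
    · exact h
    · exfalso
      apply hne
      -- `a'b'w` commutes with `b wb`
      have c1 : Commute (φ a0') (φ b0) := hba'.symm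
      have c2 : Commute (φ b0') (φ b0) := hbb'.symm
      have c3 : Commute w (φ b0) := hWc w hw _ hbB
      have c4 : Commute (φ a0') wb := (hWc wb hwb _ ha'B).symm
      have c5 : Commute (φ b0') wb := (hWc wb hwb _ hb'B).symm
      have c6 : Commute w wb := hWc w hw _ (hWB hwb)
      have hc : (φ a0' * φ b0' * w) * (φ b0 * wb) = (φ b0 * wb) * (φ a0' * φ b0' * w) :=
        ((c1.mul_left c2).mul_left c3).mul_right ((c4.mul_left c5).mul_left c6)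
      rw [← e, ← eb] at hc
      have e1 : u * (φ a0 * φ b0) * u⁻¹ * (u * φ b0 * u⁻¹) = u * (φ a0 * φ b0 * φ b0) * u⁻¹ := by group
      have e2 : u * φ b0 * u⁻¹ * (u * (φ a0 * φ b0) * u⁻¹) = u * (φ b0 * (φ a0 * φ b0)) * u⁻¹ := by group
      rw [e1, e2] at hc
      exact mul_left_cancel (mul_right_cancel hc)
  · rcases hcl' with ⟨w, hw, e⟩ | h
    · exfalso
      apply hne'
      -- `a b w` commutes with `b' wb'`
      have c1 : Commute (φ a0) (φ b0') := hab'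
      have c2 : Commute (φ b0) (φ b0') := hbb'
      have c3 : Commute w (φ b0') := hWc w hw _ hb'B
      have c4 : Commute (φ a0) wb' := (hWc wb' hwb' _ haB).symm
      have c5 : Commute (φ b0) wb' := (hWc wb' hwb' _ hbB).symm
      have c6 : Commute w wb' := hWc w hw _ (hWB hwb')
      have hc : (φ a0 * φ b0 * w) * (φ b0' * wb') = (φ b0' * wb') * (φ a0 * φ b0 * w) :=
        ((c1.mul_left c2).mul_left c3).mul_right ((c4.mul_left c5).mul_left c6)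
      rw [← e, ← eb'] at hc
      have e1 : u * (φ a0' * φ b0') * u⁻¹ * (u * φ b0' * u⁻¹) = u * (φ a0' * φ b0' * φ b0') * u⁻¹ := by
        group
      have e2 : u * φ b0' * u⁻¹ * (u * (φ a0' * φ b0') * u⁻¹) = u * (φ b0' * (φ a0' * φ b0')) * u⁻¹ := by
        group
      rw [e1, e2] at hc
      exact mul_left_cancel (mul_right_cancel hc)
    · exact h

end Cfsg.Agent.Helper12.S02
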