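import Mathlib
import Cfsg.Agent.Lib.S02.S02Defs
import Cfsg.Agent.Lib.S02.MGEN
import Cfsg.Agent.Lib.S02.MREL
import Cfsg.Agent.Lib.S02.MWCEN

/-! S4402 design (helper12), piece CF3.  See plans/S4402_plan.md. -/

set_option autoImplicit false

namespace Cfsg.Agent.Helper12.S02

open Subgroup

/-- abstract form: `x = (x y) y⁻¹`, with `y` commuting with the subgroup `W` -/
theorem s02_cf3_aux {S : Type*} [Group S] (W : Subgroup S) (u x y : S)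
    (hy : ∀ w ∈ W, w * y = y * w)
    (h1 : ∃ w ∈ W, u * y * u⁻¹ = y * w)
    (h2 : ∃ w ∈ W, u * (x * y) * u⁻¹ = x * y * w) :
    ∃ w ∈ W, u * x * u⁻¹ = x * w := by
  obtain ⟨w2, hw2, e2⟩ := h1
  obtain ⟨w1, hw1, e1⟩ := h2
  refine ⟨w1 * w2⁻¹, W.mul_mem hw1 (W.inv_mem hw2), ?_⟩
  have hc : (w1 * w2⁻¹) * y = y * (w1 * w2⁻¹) := hy _ (W.mul_mem hw1 (W.inv_mem hw2))
  have key : u * x * u⁻¹ = (u * (x * y) * u⁻¹) * (u * y * u⁻¹)⁻¹ := by group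
  rw [key, e1, e2]
  calc x * y * w1 * (y * w2)⁻¹ = x * (y * (w1 * w2⁻¹)) * y⁻¹ := by group
    _ = x * ((w1 * w2⁻¹) * y) * y⁻¹ := by rw [hc]
    _ = x * (w1 * w2⁻¹) := by group

/-- `a = (ab) b⁻¹`, and `W` is central in `B`: so `u a u⁻¹ ∈ aW`; same primed. -/
theorem fix_a {S : Type*} [Group S] {P : Subgroup S} {φ : W3 →* S}
    (hφ : WD P φ) (u : S)
    (hb : ∃ w ∈ Ws φ, u * φ b0 * u⁻¹ = φ b0 * w)
    (hb' : ∃ w ∈ Ws φ, u * φ b0' * u⁻¹ = φ b0' * w)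
    (hab : ∃ w ∈ Ws φ, u * (φ a0 * φ b0) * u⁻¹ = φ a0 * φ b0 * w)
    (hab' : ∃ w ∈ Ws φ, u * (φ a0' * φ b0') * u⁻¹ = φ a0' * φ b0' * w) :
    (∃ w ∈ Ws φ, u * φ a0 * u⁻¹ = φ a0 * w) ∧ (∃ w ∈ Ws φ, u * φ a0' * u⁻¹ = φ a0' * w) := by
  have hg := gen_facts hφ
  have hbB : φ b0 ∈ Bs φ := hg.2.2.2.2.1
  have hb'B : φ b0' ∈ Bs φ := hg.2.2.2.2.2.2.1
  have hW := (w_central hφ).1
  exact ⟨s02_cf3_aux (Ws φ) u (φ a0) (φ b0) (fun w hw => hW w hw _ hbB) hb hab,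
    s02_cf3_aux (Ws φ) u (φ a0') (φ b0') (fun w hw => hW w hw _ hb'B) hb' hab'⟩

end Cfsg.Agent.Helper12.S02
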