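import Mathlib
import Cfsg.Agent.Lib.S02.S02Defs
import Cfsg.Agent.Lib.S02.MGEN
import Cfsg.Agent.Lib.S02.MREL
import Cfsg.Agent.Lib.S02.MWCEN

/-! S4402 design (helper12), piece CF4.  See plans/S4402_plan.md. -/

set_option autoImplicit false

namespace Cfsg.Agent.Helper12.S02

open Subgroup

/-- trivial action modulo `W` on the generators `a, b, a', b'` of `B` extends to all of `B`
(closure induction; `W` is central in `B`), and then `u` centralises `W = {1, z, z', zz'}`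
(`u z u⁻¹ = (u a u⁻¹)² = (a w)² = z`). -/
theorem fix_all {S : Type*} [Group S] {P : Subgroup S} {φ : W3 →* S}
    (hφ : WD P φ) (u : S)
    (ha : ∃ w ∈ Ws φ, u * φ a0 * u⁻¹ = φ a0 * w) (hb : ∃ w ∈ Ws φ, u * φ b0 * u⁻¹ = φ b0 * w)
    (ha' : ∃ w ∈ Ws φ, u * φ a0' * u⁻¹ = φ a0' * w)
    (hb' : ∃ w ∈ Ws φ, u * φ b0' * u⁻¹ = φ b0' * w) :
    (∀ g ∈ Bs φ, ∃ w ∈ Ws φ, u * g * u⁻¹ = g * w) ∧ (∀ w ∈ Ws φ, u * w * u⁻¹ = w) := by
  obtain ⟨hB, hW, -, haB, hbB, ha'B, hb'B, -⟩ := gen_facts hφ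
  obtain ⟨hWc, hW2, -⟩ := w_central hφ
  obtain ⟨-, hz, -, -, -, hz', -⟩ := rel_facts hφ
  have h1 : ∀ g ∈ Bs φ, ∃ w ∈ Ws φ, u * g * u⁻¹ = g * w := by
    intro g hg
    have hg' : g ∈ closure ({φ a0, φ b0, φ a0', φ b0'} : Set S) := by rw [← hB]; exact hg
    have key : g ∈ Bs φ ∧ ∃ w ∈ Ws φ, u * g * u⁻¹ = g * w := by
      induction hg' using Subgroup.closure_induction with
      | mem y hy =>
        simp only [Set.mem_insert_iff, Set.mem_singleton_iff] at hy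
        rcases hy with rfl | rfl | rfl | rfl
        · exact ⟨haB, ha⟩
        · exact ⟨hbB, hb⟩
        · exact ⟨ha'B, ha'⟩
        · exact ⟨hb'B, hb'⟩
      | one => exact ⟨Subgroup.one_mem _, 1, Subgroup.one_mem _, by group⟩
      | mul x y _ _ ihx ihy =>
        obtain ⟨hxB, w1, hw1, e1⟩ := ihx (by rw [hB]; assumption)
        obtain ⟨hyB, w2, hw2, e2⟩ := ihy (by rw [hB]; assumption)
        refine ⟨Subgroup.mul_mem _ hxB hyB, w1 * w2, Subgroup.mul_mem _ hw1 hw2, ?_⟩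
        have hc := hWc w1 hw1 y hyB
        calc u * (x * y) * u⁻¹ = (u * x * u⁻¹) * (u * y * u⁻¹) := by group
          _ = (x * w1) * (y * w2) := by rw [e1, e2]
          _ = x * (w1 * y) * w2 := by group
          _ = x * (y * w1) * w2 := by rw [hc]
          _ = x * y * (w1 * w2) := by group
      | inv x _ ihx =>
        obtain ⟨hxB, w1, hw1, e1⟩ := ihx (by rw [hB]; assumption)
        refine ⟨Subgroup.inv_mem _ hxB, w1⁻¹, Subgroup.inv_mem _ hw1, ?_⟩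
        have hc := hWc w1 hw1 x hxB
        calc u * x⁻¹ * u⁻¹ = (u * x * u⁻¹)⁻¹ := by group
          _ = (x * w1)⁻¹ := by rw [e1]
          _ = (w1 * x)⁻¹ := by rw [hc]
          _ = x⁻¹ * w1⁻¹ := by group
    exact key.2
  refine ⟨h1, ?_⟩
  -- u fixes z and z'
  have hsq : ∀ x ∈ Bs φ, (∃ w ∈ Ws φ, u * x * u⁻¹ = x * w) → u * x ^ 2 * u⁻¹ = x ^ 2 := by
    rintro x hxB ⟨w, hw, e⟩
    have hc := hWc w hw x hxB
    have hw2 := hW2 w hw
    calc u * x ^ 2 * u⁻¹ = (u * x * u⁻¹) ^ 2 := by rw [conj_pow]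
      _ = (x * w) * (x * w) := by rw [e, pow_two]
      _ = x * (w * x) * w := by group
      _ = x * (x * w) * w := by rw [hc]
      _ = x ^ 2 * w ^ 2 := by rw [pow_two, pow_two]; group
      _ = x ^ 2 := by rw [hw2, mul_one]
  have hfz : u * φ z0 * u⁻¹ = φ z0 := by
    rw [← hz]; exact hsq _ haB ha
  have hfz' : u * φ z0' * u⁻¹ = φ z0' := by
    rw [← hz']; exact hsq _ ha'B ha'
  intro w hw
  rcases (hW w).mp hw with rfl | rfl | rfl | rfl
  · group
  · exact hfz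
  · exact hfz'
  · calc u * (φ z0 * φ z0') * u⁻¹ = (u * φ z0 * u⁻¹) * (u * φ z0' * u⁻¹) := by group
      _ = φ z0 * φ z0' := by rw [hfz, hfz']

end Cfsg.Agent.Helper12.S02
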