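import Mathlib
import Cfsg.Agent.Lib.S02.S02Defs

/-! S4402 design (helper12), piece KMUL.  See plans/S4402_plan.md. -/

set_option autoImplicit false

namespace Cfsg.Agent.Helper12.S02

open Subgroup

/-- `NormBy` is closed under products and powers; elements of `normalizer` are `NormBy` -/
theorem normBy_mul {S : Type*} [Group S] {u v : S} {X : Subgroup S} (hu : NormBy u X)
    (hv : NormBy v X) : NormBy (u * v) X ∧ (∀ n : ℕ, NormBy (u ^ n) X) := by
  constructor
  · intro x hx
    have h := hu _ (hv x hx)
    have e : u * v * x * (u * v)⁻¹ = u * (v * x * v⁻¹) * u⁻¹ := by group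
    rw [e]; exact h
  · intro n
    induction n with
    | zero =>
      intro x hx
      simpa using hx
    | succ n ih =>
      intro x hx
      have h := ih _ (hu x hx)
      have e : u ^ (n + 1) * x * (u ^ (n + 1))⁻¹ = u ^ n * (u * x * u⁻¹) * (u ^ n)⁻¹ := by
        rw [pow_succ]; group
      rw [e]; exact h

theorem normBy_of_mem_normalizer {S : Type*} [Group S] {u : S} {X : Subgroup S}
    (hu : u ∈ normalizer (X : Set S)) : NormBy u X := by
  intro x hx
  exact (Subgroup.mem_normalizer_iff.mp hu x).mp hx

theorem mem_normalizer_of_normBy {S : Type*} [Group S] [Finite S] {u : S} {X : Subgroup S}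
    (hu : NormBy u X) : u ∈ normalizer (X : Set S) := by
  rw [Subgroup.mem_normalizer_iff]
  intro x
  refine ⟨fun hx => hu x hx, fun hx => ?_⟩
  -- conjugation by `u` is an injective self-map of the finite set `X`, hence surjective
  let f : ↥X → ↥X := fun y => ⟨u * y * u⁻¹, hu y y.2⟩
  have hf : Function.Injective f := by
    intro a b hab
    have := congrArg Subtype.val hab
    simp only [f] at this
    have h2 : (a : S) = b := by
      exact mul_left_cancel (mul_right_cancel this)
    exact Subtype.ext h2
  obtain ⟨y, hy⟩ := (Finite.injective_iff_surjective.mp hf) ⟨u * x * u⁻¹, hx⟩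
  have := congrArg Subtype.val hy
  simp only [f] at this
  have h2 : (y : S) = x := mul_left_cancel (mul_right_cancel this)
  rw [← h2]; exact y.2

end Cfsg.Agent.Helper12.S02
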