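import Mathlib
import Cfsg.Agent.Lib.S02.S02Defs
import Cfsg.Agent.Lib.S02.CF1
import Cfsg.Agent.Lib.S02.CF2
import Cfsg.Agent.Lib.S02.CF3
import Cfsg.Agent.Lib.S02.CF4
import Cfsg.Agent.Lib.S02.KMUL
import Cfsg.Agent.Lib.S02.MVPROP
import Cfsg.Agent.Lib.S02.MGEN

/-! S4402 design (helper12), piece CFMAIN.  See plans/S4402_plan.md. -/

set_option autoImplicit false

namespace Cfsg.Agent.Helper12.S02

open Subgroup

/-- assembly of CF1–CF4 -/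
theorem fix_main {S : Type*} [Group S] [Finite S] {P : Subgroup S} {φ : W3 →* S}
    (hφ : WD P φ) (y : S) (hyP : NormBy y P) (h1 : NormBy y (V1s φ)) (h2 : NormBy y (V2s φ)) :
    ∃ u : S, (u = y ∨ u = y * φ t0) ∧ (∀ g ∈ Bs φ, ∃ w ∈ Ws φ, u * g * u⁻¹ = g * w) ∧
      (∀ w ∈ Ws φ, u * w * u⁻¹ = w) := by
  obtain ⟨u, hu, hb, hb'⟩ := fix_choose hφ y hyP h1 h2
  obtain ⟨hV1, hV2, -⟩ := v_props hφ
  have htP : φ t0 ∈ P := by
    rw [← hφ.range_eq]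
    exact ⟨t0, rfl⟩
  have huN : NormBy u P ∧ NormBy u (V1s φ) ∧ NormBy u (V2s φ) := by
    rcases hu with h | h
    · rw [h]
      exact ⟨hyP, h1, h2⟩
    · rw [h]
      have htPn : NormBy (φ t0) P := fun x hx => P.mul_mem (P.mul_mem htP hx) (P.inv_mem htP)
      exact ⟨(normBy_mul hyP htPn).1, (normBy_mul h1 (hV1 _ htP)).1,
        (normBy_mul h2 (hV2 _ htP)).1⟩
  obtain ⟨huP, hu1, hu2⟩ := huN
  obtain ⟨hab, hab'⟩ := fix_ab hφ u huP hu1 hu2 hb hb'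
  obtain ⟨ha, ha'⟩ := fix_a hφ u hb hb' hab hab'
  obtain ⟨hB, hW⟩ := fix_all hφ u ha hb ha' hb'
  exact ⟨u, hu, hB, hW⟩

end Cfsg.Agent.Helper12.S02
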