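import Mathlib
import Cfsg.Agent.Lib.S02.S02Defs
import Cfsg.Agent.Lib.S02.MFV2
import Cfsg.Agent.Lib.S02.MGEN
import Cfsg.Agent.Lib.S02.MREL
import Cfsg.Agent.Lib.S02.MWCEN
import Cfsg.Agent.Lib.S02.KBW
import Cfsg.Agent.Lib.S02.KINV
import Cfsg.Agent.Lib.S02.MLE

/-! S4402 design (helper12), piece CS1.  See plans/S4402_plan.md. -/

set_option autoImplicit false

namespace Cfsg.Agent.Helper12.S02

open Subgroup

/-- the conjugate by `y` of an element of `V₁ − W` centralised by an element of order 4 of `B`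
lies in `abW ∪ a'b'W` -/
theorem s02_cs1_class {S : Type*} [Group S] [Finite S] {P : Subgroup S} {φ : W3 →* S}
    (hφ : WD P φ) (y : S) (hyB : NormBy y (Bs φ)) (hyW : NormBy y (Ws φ))
    (h12 : ∀ v ∈ V1s φ, y * v * y⁻¹ ∈ V2s φ) (g k : S) (hg : g ∈ V1s φ) (hgW : g ∉ Ws φ)
    (hk : k ∈ Bs φ) (hk2 : k ^ 2 ≠ 1) (hkg : k * g = g * k) :
    (∃ w ∈ Ws φ, y * g * y⁻¹ = φ a0 * φ b0 * w) ∨
      (∃ w ∈ Ws φ, y * g * y⁻¹ = φ a0' * φ b0' * w) := by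
  apply f_v2 hφ _ (h12 g hg)
  · intro h
    exact hgW (((normBy_inv hyW).2 g).1 h)
  · refine ⟨y * k * y⁻¹, hyB k hk, ?_, ?_⟩
    · rw [conj_pow]
      intro h
      exact hk2 (conj_eq_one_iff.mp h)
    · calc y * k * y⁻¹ * (y * g * y⁻¹) = y * (k * g) * y⁻¹ := by group
        _ = y * (g * k) * y⁻¹ := by rw [hkg]
        _ = y * g * y⁻¹ * (y * k * y⁻¹) := by group

/-- `y` swaps `V₁`, `V₂`: then `y b y⁻¹, y b' y⁻¹ ∈ V₂ − W` are centralised by elements of order 4 of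
`B` (`y a' y⁻¹`, resp. `y a y⁻¹`), so lie in `abW ∪ a'b'W` (`f_v2`), in different classes (else
`y (b b') y⁻¹ ∈ W`).  So `u = y` or `u = y t` has `u b u⁻¹ ∈ abW`, `u b' u⁻¹ ∈ a'b'W`. -/
theorem swap_choose {S : Type*} [Group S] [Finite S] {P : Subgroup S} {φ : W3 →* S}
    (hφ : WD P φ) (y : S) (hyP : NormBy y P)
    (h12 : ∀ v ∈ V1s φ, y * v * y⁻¹ ∈ V2s φ) (h21 : ∀ v ∈ V2s φ, y * v * y⁻¹ ∈ V1s φ) :
    ∃ u : S, (u = y ∨ u = y * φ t0) ∧ (∃ w ∈ Ws φ, u * φ b0 * u⁻¹ = φ a0 * φ b0 * w) ∧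
      (∃ w ∈ Ws φ, u * φ b0' * u⁻¹ = φ a0' * φ b0' * w) := by
  obtain ⟨hyB, hyW⟩ := normBy_B_W hφ y hyP
  obtain ⟨_, _, _, haB, hbB, ha'B, hb'B, hbV, hb'V, habV, ha'b'V, hbW, hb'W, hbb'W, _, _, _, _, _⟩ :=
    gen_facts hφ
  obtain ⟨_, haz, _, _, _, ha'z, _, _, _, _, htb, _, htb', _, hab', hba', _, hz, hz', _, _, _⟩ :=
    rel_facts hφ
  obtain ⟨hWc, hW2, hBsq⟩ := w_central hφ
  have hk2 : φ a0 ^ 2 ≠ 1 := by rw [haz]; exact hz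
  have hk2' : φ a0' ^ 2 ≠ 1 := by rw [ha'z]; exact hz'
  have c1 := s02_cs1_class hφ y hyB hyW h12 (φ b0) (φ a0') hbV hbW ha'B hk2' hba'.symm
  have c2 := s02_cs1_class hφ y hyB hyW h12 (φ b0') (φ a0) hb'V hb'W haB hk2 hab'
  have hcontra : ∀ c ∈ Bs φ, ∀ w1 ∈ Ws φ, ∀ w2 ∈ Ws φ, y * φ b0 * y⁻¹ = c * w1 →
      y * φ b0' * y⁻¹ = c * w2 → False := by
    intro c hc w1 hw1 w2 hw2 e1 e2
    have h1 : y * (φ b0 * φ b0') * y⁻¹ = c ^ 2 * (w1 * w2) := by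
      calc y * (φ b0 * φ b0') * y⁻¹ = (y * φ b0 * y⁻¹) * (y * φ b0' * y⁻¹) := by group
        _ = c * w1 * (c * w2) := by rw [e1, e2]
        _ = c * (w1 * c) * w2 := by group
        _ = c * (c * w1) * w2 := by rw [hWc w1 hw1 c hc]
        _ = c ^ 2 * (w1 * w2) := by rw [pow_two]; group
    have h2 : y * (φ b0 * φ b0') * y⁻¹ ∈ Ws φ := by
      rw [h1]
      exact mul_mem (hBsq c hc) (mul_mem hw1 hw2)
    exact hbb'W (((normBy_inv hyW).2 _).1 h2)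
  have habB : φ a0 * φ b0 ∈ Bs φ := mul_mem haB hbB
  have ha'b'B : φ a0' * φ b0' ∈ Bs φ := mul_mem ha'B hb'B
  rcases c1 with ⟨w1, hw1, e1⟩ | ⟨w1, hw1, e1⟩ <;> rcases c2 with ⟨w2, hw2, e2⟩ | ⟨w2, hw2, e2⟩
  · exact (hcontra _ habB w1 hw1 w2 hw2 e1 e2).elim
  · exact ⟨y, Or.inl rfl, ⟨w1, hw1, e1⟩, ⟨w2, hw2, e2⟩⟩
  · refine ⟨y * φ t0, Or.inr rfl, ⟨w2, hw2, ?_⟩, ⟨w1, hw1, ?_⟩⟩
    · calc y * φ t0 * φ b0 * (y * φ t0)⁻¹ = y * (φ t0 * φ b0 * (φ t0)⁻¹) * y⁻¹ := by group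
        _ = φ a0 * φ b0 * w2 := by rw [htb, e2]
    · calc y * φ t0 * φ b0' * (y * φ t0)⁻¹ = y * (φ t0 * φ b0' * (φ t0)⁻¹) * y⁻¹ := by group
        _ = φ a0' * φ b0' * w1 := by rw [htb', e1]
  · exact (hcontra _ ha'b'B w1 hw1 w2 hw2 e1 e2).elim

end Cfsg.Agent.Helper12.S02
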