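import Mathlib
import Cfsg.Agent.Lib.S02.S02Defs
import Cfsg.Agent.Lib.S02.MFV1
import Cfsg.Agent.Lib.S02.MGEN
import Cfsg.Agent.Lib.S02.MREL
import Cfsg.Agent.Lib.S02.MWCEN
import Cfsg.Agent.Lib.S02.KBW
import Cfsg.Agent.Lib.S02.KINV
import Cfsg.Agent.Lib.S02.MLE

/-! S4402 design (helper12), piece CS2.  See plans/S4402_plan.md. -/

set_option autoImplicit false

namespace Cfsg.Agent.Helper12.S02

open Subgroup

set_option maxRecDepth 1000000 in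
/-- `b'W` commutes with `abW`, and `bW` with `a'b'W` -/
theorem s02_cs2_comm : ∀ w0 : W3, w0 ∈ W0 → ∀ w1 : W3, w1 ∈ W0 →
    (b0' * w0) * (a0 * b0 * w1) = (a0 * b0 * w1) * (b0' * w0) ∧
    (b0 * w0) * (a0' * b0' * w1) = (a0' * b0' * w1) * (b0 * w0) := by decide +kernel

/-- the conjugate by `u` of an element of `V₂ − W` centralised by an element of order 4 of `B`
lies in `bW ∪ b'W` -/
theorem s02_cs2_class {S : Type*} [Group S] [Finite S] {P : Subgroup S} {φ : W3 →* S}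
    (hφ : WD P φ) (u : S) (huB : NormBy u (Bs φ)) (huW : NormBy u (Ws φ))
    (h21 : ∀ v ∈ V2s φ, u * v * u⁻¹ ∈ V1s φ) (g k : S) (hg : g ∈ V2s φ) (hgW : g ∉ Ws φ)
    (hk : k ∈ Bs φ) (hk2 : k ^ 2 ≠ 1) (hkg : k * g = g * k) :
    (∃ w ∈ Ws φ, u * g * u⁻¹ = φ b0 * w) ∨ (∃ w ∈ Ws φ, u * g * u⁻¹ = φ b0' * w) := by
  apply f_v1 hφ _ (h21 g hg)
  · intro h
    exact hgW (((normBy_inv huW).2 g).1 h)
  · refine ⟨u * k * u⁻¹, huB k hk, ?_, ?_⟩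
    · rw [conj_pow]
      intro h
      exact hk2 (conj_eq_one_iff.mp h)
    · calc u * k * u⁻¹ * (u * g * u⁻¹) = u * (k * g) * u⁻¹ := by group
        _ = u * (g * k) * u⁻¹ := by rw [hkg]
        _ = u * g * u⁻¹ * (u * k * u⁻¹) := by group

/-- conjugates of non-commuting elements do not commute -/
theorem s02_cs2_ncomm {S : Type*} [Group S] (u c d : S) (h : c * d ≠ d * c) :
    (u * c * u⁻¹) * (u * d * u⁻¹) ≠ (u * d * u⁻¹) * (u * c * u⁻¹) := by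
  intro h1
  apply h
  have h2 : u * (c * d) * u⁻¹ = u * (d * c) * u⁻¹ := by
    calc u * (c * d) * u⁻¹ = (u * c * u⁻¹) * (u * d * u⁻¹) := by group
      _ = (u * d * u⁻¹) * (u * c * u⁻¹) := h1
      _ = u * (d * c) * u⁻¹ := by group
  exact mul_left_cancel (mul_right_cancel h2)

/-- `u` swaps `V₁`, `V₂`, `u b u⁻¹ ∈ abW`, `u b' u⁻¹ ∈ a'b'W`: then `u (ab) u⁻¹ ∈ V₁ − W` is
centralised by `u a' u⁻¹`, so lies in `bW ∪ b'W` (`f_v1`); it does not commute with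
`u b u⁻¹ ∈ abW` while `b'W` does; so `u (ab) u⁻¹ ∈ bW`.  Same primed. -/
theorem swap_ab {S : Type*} [Group S] [Finite S] {P : Subgroup S} {φ : W3 →* S}
    (hφ : WD P φ) (u : S) (huP : NormBy u P)
    (h12 : ∀ v ∈ V1s φ, u * v * u⁻¹ ∈ V2s φ) (h21 : ∀ v ∈ V2s φ, u * v * u⁻¹ ∈ V1s φ)
    (hb : ∃ w ∈ Ws φ, u * φ b0 * u⁻¹ = φ a0 * φ b0 * w)
    (hb' : ∃ w ∈ Ws φ, u * φ b0' * u⁻¹ = φ a0' * φ b0' * w) :
    (∃ w ∈ Ws φ, u * (φ a0 * φ b0) * u⁻¹ = φ b0 * w) ∧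
      (∃ w ∈ Ws φ, u * (φ a0' * φ b0') * u⁻¹ = φ b0' * w) := by
  obtain ⟨huB, huW⟩ := normBy_B_W hφ u huP
  obtain ⟨_, _, _, haB, hbB, ha'B, hb'B, hbV, hb'V, habV, ha'b'V, hbW, hb'W, hbb'W, habW, ha'b'W,
    _, _, _⟩ := gen_facts hφ
  obtain ⟨_, haz, _, _, _, ha'z, _, _, _, _, htb, _, htb', haa', hab', hba', _, hz, hz', _, hnc,
    hnc'⟩ := rel_facts hφ
  have hk2 : φ a0 ^ 2 ≠ 1 := by rw [haz]; exact hz
  have hk2' : φ a0' ^ 2 ≠ 1 := by rw [ha'z]; exact hz'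
  obtain ⟨w1, hw1, e1⟩ := hb
  obtain ⟨w2, hw2, e2⟩ := hb'
  have hk1 : φ a0' * (φ a0 * φ b0) = (φ a0 * φ b0) * φ a0' := by
    calc φ a0' * (φ a0 * φ b0) = (φ a0' * φ a0) * φ b0 := by group
      _ = (φ a0 * φ a0') * φ b0 := by rw [haa']
      _ = φ a0 * (φ a0' * φ b0) := by group
      _ = φ a0 * (φ b0 * φ a0') := by rw [hba']
      _ = (φ a0 * φ b0) * φ a0' := by group
  have hk1' : φ a0 * (φ a0' * φ b0') = (φ a0' * φ b0') * φ a0 := by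
    calc φ a0 * (φ a0' * φ b0') = (φ a0 * φ a0') * φ b0' := by group
      _ = (φ a0' * φ a0) * φ b0' := by rw [haa']
      _ = φ a0' * (φ a0 * φ b0') := by group
      _ = φ a0' * (φ b0' * φ a0) := by rw [hab']
      _ = (φ a0' * φ b0') * φ a0 := by group
  have c1 := s02_cs2_class hφ u huB huW h21 (φ a0 * φ b0) (φ a0') habV habW ha'B hk2' hk1
  have c2 := s02_cs2_class hφ u huB huW h21 (φ a0' * φ b0') (φ a0) ha'b'V ha'b'W haB hk2 hk1'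
  have n1 := s02_cs2_ncomm u (φ a0 * φ b0) (φ b0) hnc
  have n2 := s02_cs2_ncomm u (φ a0' * φ b0') (φ b0') hnc'
  obtain ⟨w10, hw10, rfl⟩ := hw1
  obtain ⟨w20, hw20, rfl⟩ := hw2
  constructor
  · rcases c1 with c1 | ⟨w, hw, e⟩
    · exact c1
    · exfalso
      obtain ⟨w0, hw0, rfl⟩ := hw
      apply n1
      rw [e, e1]
      simp only [← map_mul]
      rw [(s02_cs2_comm w0 hw0 w10 hw10).1]
  · rcases c2 with ⟨w, hw, e⟩ | c2
    · exfalso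
      obtain ⟨w0, hw0, rfl⟩ := hw
      apply n2
      rw [e, e2]
      simp only [← map_mul]
      rw [(s02_cs2_comm w0 hw0 w20 hw20).2]
    · exact c2

end Cfsg.Agent.Helper12.S02
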