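import Mathlib
import Cfsg.Agent.Lib.S02.S02Defs
import Cfsg.Agent.Lib.S02.MGEN
import Cfsg.Agent.Lib.S02.MREL
import Cfsg.Agent.Lib.S02.MWCEN

/-! S4402 design (helper12), piece CS3.  See plans/S4402_plan.md. -/

set_option autoImplicit false

namespace Cfsg.Agent.Helper12.S02

open Subgroup

/-- one side of `swap_form`: from `u b u⁻¹ = a b w₁` and `u (a b) u⁻¹ = b w₃` get
`u a u⁻¹ = a w` and `u a² u⁻¹ = a²` -/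
theorem s02_cs3_core {S : Type*} [Group S] (W : Subgroup S) (a b u : S)
    (hca : ∀ w ∈ W, w * a = a * w) (hcb : ∀ w ∈ W, w * b = b * w)
    (ha2 : a ^ 2 ∈ W) (hW2 : ∀ w ∈ W, w ^ 2 = 1)
    (hb : ∃ w ∈ W, u * b * u⁻¹ = a * b * w)
    (hab : ∃ w ∈ W, u * (a * b) * u⁻¹ = b * w) :
    (∃ w ∈ W, u * a * u⁻¹ = a * w) ∧ u * a ^ 2 * u⁻¹ = a ^ 2 := by
  obtain ⟨w1, hw1, h1⟩ := hb
  obtain ⟨w3, hw3, h3⟩ := hab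
  have hw' : w3 * w1⁻¹ ∈ W := W.mul_mem hw3 (W.inv_mem hw1)
  have hwm : (a ^ 2)⁻¹ * (w3 * w1⁻¹) ∈ W := W.mul_mem (W.inv_mem ha2) hw'
  have e1 : u * a * u⁻¹ = a * ((a ^ 2)⁻¹ * (w3 * w1⁻¹)) := by
    have hcb' := hcb _ hw'
    have hca' := hca _ hw'
    have h6 : (w3 * w1⁻¹) * a⁻¹ = a⁻¹ * (w3 * w1⁻¹) := by
      calc (w3 * w1⁻¹) * a⁻¹ = a⁻¹ * (a * (w3 * w1⁻¹)) * a⁻¹ := by group
        _ = a⁻¹ * ((w3 * w1⁻¹) * a) * a⁻¹ := by rw [hca']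
        _ = a⁻¹ * (w3 * w1⁻¹) := by group
    calc u * a * u⁻¹ = (u * (a * b) * u⁻¹) * (u * b * u⁻¹)⁻¹ := by group
      _ = (b * w3) * (a * b * w1)⁻¹ := by rw [h1, h3]
      _ = b * (w3 * w1⁻¹) * b⁻¹ * a⁻¹ := by group
      _ = (w3 * w1⁻¹) * b * b⁻¹ * a⁻¹ := by rw [hcb']
      _ = (w3 * w1⁻¹) * a⁻¹ := by group
      _ = a⁻¹ * (w3 * w1⁻¹) := h6
      _ = a * ((a ^ 2)⁻¹ * (w3 * w1⁻¹)) := by rw [pow_two]; group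
  refine ⟨⟨_, hwm, e1⟩, ?_⟩
  have hcm := hca _ hwm
  have hsq := hW2 _ hwm
  rw [pow_two] at hsq
  calc u * a ^ 2 * u⁻¹ = (u * a * u⁻¹) * (u * a * u⁻¹) := by rw [pow_two]; group
    _ = (a * ((a ^ 2)⁻¹ * (w3 * w1⁻¹))) * (a * ((a ^ 2)⁻¹ * (w3 * w1⁻¹))) := by rw [e1]
    _ = a * (((a ^ 2)⁻¹ * (w3 * w1⁻¹)) * a) * ((a ^ 2)⁻¹ * (w3 * w1⁻¹)) := by group
    _ = a * (a * ((a ^ 2)⁻¹ * (w3 * w1⁻¹))) * ((a ^ 2)⁻¹ * (w3 * w1⁻¹)) := by rw [hcm]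
    _ = a * a * (((a ^ 2)⁻¹ * (w3 * w1⁻¹)) * ((a ^ 2)⁻¹ * (w3 * w1⁻¹))) := by group
    _ = a ^ 2 := by rw [hsq, mul_one, pow_two]

/-- `a = (ab) b⁻¹`: `u a u⁻¹ = (b w)(ab w')⁻¹ = a⁻¹ w'' = a (z w'')`; same primed; and then
`u` centralises `W = {1, z, z', zz'}` (`u z u⁻¹ = (a w)² = z`). -/
theorem swap_form {S : Type*} [Group S] {P : Subgroup S} {φ : W3 →* S}
    (hφ : WD P φ) (u : S)
    (hb : ∃ w ∈ Ws φ, u * φ b0 * u⁻¹ = φ a0 * φ b0 * w)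
    (hb' : ∃ w ∈ Ws φ, u * φ b0' * u⁻¹ = φ a0' * φ b0' * w)
    (hab : ∃ w ∈ Ws φ, u * (φ a0 * φ b0) * u⁻¹ = φ b0 * w)
    (hab' : ∃ w ∈ Ws φ, u * (φ a0' * φ b0') * u⁻¹ = φ b0' * w) : SwapForm φ u := by
  obtain ⟨hWc, hWsq, hBsq⟩ := w_central hφ
  obtain ⟨-, hWmem, -, haB, hbB, ha'B, hb'B, -⟩ := gen_facts hφ
  obtain ⟨-, hz, -, -, -, hz', -⟩ := rel_facts hφ
  obtain ⟨ha, hzfix⟩ := s02_cs3_core (Ws φ) (φ a0) (φ b0) u (fun w hw => hWc w hw _ haB)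
    (fun w hw => hWc w hw _ hbB) (hBsq _ haB) hWsq hb hab
  obtain ⟨ha', hz'fix⟩ := s02_cs3_core (Ws φ) (φ a0') (φ b0') u (fun w hw => hWc w hw _ ha'B)
    (fun w hw => hWc w hw _ hb'B) (hBsq _ ha'B) hWsq hb' hab'
  rw [hz] at hzfix
  rw [hz'] at hz'fix
  refine ⟨ha, hb, ha', hb', ?_⟩
  intro w hw
  rcases (hWmem w).mp hw with rfl | rfl | rfl | rfl
  · group
  · exact hzfix
  · exact hz'fix
  · calc u * (φ z0 * φ z0') * u⁻¹ = (u * φ z0 * u⁻¹) * (u * φ z0' * u⁻¹) := by group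
      _ = φ z0 * φ z0' := by rw [hzfix, hz'fix]

end Cfsg.Agent.Helper12.S02
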