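import Mathlib
import Cfsg.Agent.Lib.S02.S02Defs
import Cfsg.Agent.Lib.S02.CS1
import Cfsg.Agent.Lib.S02.CS2
import Cfsg.Agent.Lib.S02.CS3
import Cfsg.Agent.Lib.S02.KMUL
import Cfsg.Agent.Lib.S02.MVPROP
import Cfsg.Agent.Lib.S02.MGEN

/-! S4402 design (helper12), piece CSMAIN.  See plans/S4402_plan.md. -/

set_option autoImplicit false

namespace Cfsg.Agent.Helper12.S02

open Subgroup

/-- assembly of CS1–CS3 (note `t = φ t0` fixes `V₁`, `V₂`, so `y t` swaps them too) -/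
theorem swap_main {S : Type*} [Group S] [Finite S] {P : Subgroup S} {φ : W3 →* S}
    (hφ : WD P φ) (y : S) (hyP : NormBy y P)
    (h12 : ∀ v ∈ V1s φ, y * v * y⁻¹ ∈ V2s φ) (h21 : ∀ v ∈ V2s φ, y * v * y⁻¹ ∈ V1s φ) :
    ∃ u : S, (u = y ∨ u = y * φ t0) ∧ SwapForm φ u := by
  obtain ⟨u, hu, hb, hb'⟩ := swap_choose hφ y hyP h12 h21
  obtain ⟨hV1, hV2, -⟩ := v_props hφ
  have htP : φ t0 ∈ P := by
    rw [← hφ.range_eq]
    exact ⟨t0, rfl⟩
  have htN : NormBy (φ t0) P := fun x hx => P.mul_mem (P.mul_mem htP hx) (P.inv_mem htP)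
  have huP : NormBy u P := by
    rcases hu with rfl | rfl
    · exact hyP
    · exact (normBy_mul hyP htN).1
  have hu12 : ∀ v ∈ V1s φ, u * v * u⁻¹ ∈ V2s φ := by
    rcases hu with rfl | rfl
    · exact h12
    · intro v hv
      have h1 := h12 _ (hV1 _ htP v hv)
      have e : y * φ t0 * v * (y * φ t0)⁻¹ = y * (φ t0 * v * (φ t0)⁻¹) * y⁻¹ := by group
      rw [e]
      exact h1
  have hu21 : ∀ v ∈ V2s φ, u * v * u⁻¹ ∈ V1s φ := by
    rcases hu with rfl | rfl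
    · exact h21
    · intro v hv
      have h1 := h21 _ (hV2 _ htP v hv)
      have e : y * φ t0 * v * (y * φ t0)⁻¹ = y * (φ t0 * v * (φ t0)⁻¹) * y⁻¹ := by group
      rw [e]
      exact h1
  obtain ⟨hab, hab'⟩ := swap_ab hφ u huP hu12 hu21 hb hb'
  exact ⟨u, hu, swap_form hφ u hb hb' hab hab'⟩

end Cfsg.Agent.Helper12.S02
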