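import Mathlib
import Cfsg.Agent.Lib.S02.S02Defs
import Cfsg.Agent.Lib.S02.KCONJ
import Cfsg.Agent.Lib.S02.MVPROP
import Cfsg.Agent.Lib.S02.MCARD
import Cfsg.Agent.Lib.S02.KINV

/-! S4402 design (helper12), piece KSWAP.  See plans/S4402_plan.md. -/

set_option autoImplicit false

namespace Cfsg.Agent.Helper12.S02

open Subgroup

/-- if `y` maps `A` into `A` and into `B`, with `|A| = |B|` finite, then `A = B` -/
theorem s02_kswap_eq {S : Type*} [Group S] [Finite S] {y : S} {A B : Subgroup S}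
    (hA : NormBy y A) (hAB : ∀ v ∈ A, y * v * y⁻¹ ∈ B) (hcard : Nat.card ↥B ≤ Nat.card ↥A) :
    A = B := by
  have hinv := (normBy_inv hA).1
  have hle : A ≤ B := by
    intro v hv
    have h1 : y⁻¹ * v * y⁻¹⁻¹ ∈ A := hinv v hv
    have h2 := hAB _ h1
    have e : y * (y⁻¹ * v * y⁻¹⁻¹) * y⁻¹ = v := by group
    rw [e] at h2
    exact h2
  exact Subgroup.eq_of_le_of_card_ge hle hcard

/-- consequences of `fix_or_swap` -/
theorem swap_of_not {S : Type*} [Group S] [Finite S] {P : Subgroup S} {φ : W3 →* S}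
    (hφ : WD P φ) (y : S) (hyP : NormBy y P)
    (hn : ¬ NormBy y (V1s φ) ∨ ¬ NormBy y (V2s φ)) :
    (∀ v ∈ V1s φ, y * v * y⁻¹ ∈ V2s φ) ∧ (∀ v ∈ V2s φ, y * v * y⁻¹ ∈ V1s φ) := by
  rcases fix_or_swap hφ y hyP with h | h
  · rcases hn with hn | hn
    · exact absurd h.1 hn
    · exact absurd h.2 hn
  · exact h

theorem both_of_one {S : Type*} [Group S] [Finite S] {P : Subgroup S} {φ : W3 →* S}
    (hφ : WD P φ) (y : S) (hyP : NormBy y P)
    (h : NormBy y (V1s φ) ∨ NormBy y (V2s φ)) : NormBy y (V1s φ) ∧ NormBy y (V2s φ) := by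
  rcases fix_or_swap hφ y hyP with h1 | h1
  · exact h1
  · exfalso
    obtain ⟨-, -, -, -, h16a, h16b⟩ := card_facts hφ
    obtain ⟨-, -, -, -, -, -, hne⟩ := v_props hφ
    rcases h with h | h
    · exact hne (s02_kswap_eq h h1.1 (by rw [h16a, h16b]))
    · exact hne (s02_kswap_eq h h1.2 (by rw [h16a, h16b])).symm

end Cfsg.Agent.Helper12.S02
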