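import Mathlib
import Cfsg.Agent.Lib.S02.S02Defs

/-! S4402 design (helper12), piece MCENTB.  See plans/S4402_plan.md. -/

set_option autoImplicit false

namespace Cfsg.Agent.Helper12.S02

open Subgroup

set_option maxRecDepth 1000000 in
/-- the centraliser of the base group `B0` in `W3` is `W0` -/
theorem s02_mcentb_W3 : ∀ g : W3, (∀ x : W3, x ∈ B0 → g * x = x * g) → g ∈ W0 := by
  decide +kernel

/-- `C_P(B) = W` -/
theorem cent_B {S : Type*} [Group S] {P : Subgroup S} {φ : W3 →* S} (hφ : WD P φ)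
    (g : S) (hg : g ∈ P) (hc : ∀ x ∈ Bs φ, g * x = x * g) : g ∈ Ws φ := by
  rw [← hφ.range_eq] at hg
  obtain ⟨g0, rfl⟩ := hg
  have h1 : ∀ x : W3, x ∈ B0 → g0 * x = x * g0 := by
    intro x hx
    apply hφ.inj
    rw [map_mul, map_mul]
    exact hc (φ x) (Subgroup.mem_map_of_mem φ hx)
  exact Subgroup.mem_map_of_mem φ (s02_mcentb_W3 g0 h1)

end Cfsg.Agent.Helper12.S02
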