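import Mathlib
import Cfsg.Agent.Lib.S02.S02Defs
import Cfsg.Agent.Lib.S02.MCENTB
import Cfsg.Agent.Lib.S02.MWCEN

/-! S4402 design (helper12), piece RK1.  See plans/S4402_plan.md. -/

set_option autoImplicit false

namespace Cfsg.Agent.Helper12.S02

open Subgroup

/-- `u` acts on `B` by `g ↦ g w_g` (`w_g ∈ W`) and centralises `W`: then `u²` centralises `B`
(`u² g u⁻² = g w_g w_g = g`), so `u² ∈ C_P(B) = W` (`cent_B`). -/
theorem sq_mem_W {S : Type*} [Group S] {P : Subgroup S} {φ : W3 →* S}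
    (hφ : WD P φ) (u : S) (hu2 : u ^ 2 ∈ P)
    (hB : ∀ g ∈ Bs φ, ∃ w ∈ Ws φ, u * g * u⁻¹ = g * w) (hW : ∀ w ∈ Ws φ, u * w * u⁻¹ = w) :
    u ^ 2 ∈ Ws φ := by
  obtain ⟨_, hWsq, _⟩ := w_central hφ
  apply cent_B hφ (u ^ 2) hu2
  intro x hx
  obtain ⟨w, hw, h1⟩ := hB x hx
  have h2 := hW w hw
  have h3 : w * w = 1 := by rw [← pow_two]; exact hWsq w hw
  have h4 : u ^ 2 * x * (u ^ 2)⁻¹ = x := by
    calc u ^ 2 * x * (u ^ 2)⁻¹ = u * (u * x * u⁻¹) * u⁻¹ := by rw [pow_two]; group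
      _ = u * (x * w) * u⁻¹ := by rw [h1]
      _ = (u * x * u⁻¹) * (u * w * u⁻¹) := by group
      _ = x * w * w := by rw [h1, h2]
      _ = x := by rw [mul_assoc, h3, mul_one]
  calc u ^ 2 * x = (u ^ 2 * x * (u ^ 2)⁻¹) * u ^ 2 := by group
    _ = x * u ^ 2 := by rw [h4]

end Cfsg.Agent.Helper12.S02
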