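import Mathlib
import Cfsg.Agent.Lib.S02.S02Defs
import Cfsg.Agent.Lib.S02.MCARD
import Cfsg.Agent.Lib.S02.MLE
import Cfsg.Agent.Lib.S02.MWCEN
import Cfsg.Agent.Lib.Helper22.SecRank

/-! S4402 design (helper12), piece RK2.  See plans/S4402_plan.md. -/

set_option autoImplicit false

namespace Cfsg.Agent.Helper12.S02

open Subgroup

/-- THE RANK CONTRADICTION.  `K = B ⊔ zpowers u = B ∪ B u` has order `≥ 128`, normalises `W`, and all
its squares lie in `W` (`(g u)² = g (u g u⁻¹) u² = g² w_g u² ∈ W`); so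
`Cfsg.Agent.Helper22.SecRank.card_le_of_sq hr K (Ws φ)` gives `128 ≤ 2^4 * 4`. -/
theorem rank_contra {S : Type*} [Group S] [Finite S] (hr : Cfsg.SectionalPRankLE 2 4 S)
    {P : Subgroup S} {φ : W3 →* S} (hφ : WD P φ) (u : S) (huB : u ∉ Bs φ) (hu2 : u ^ 2 ∈ Ws φ)
    (hB : ∀ g ∈ Bs φ, ∃ w ∈ Ws φ, u * g * u⁻¹ = g * w) (hW : ∀ w ∈ Ws φ, u * w * u⁻¹ = w) :
    False := by
  obtain ⟨hWc, hWe, hBsq⟩ := w_central hφ
  have hle := le_facts hφ
  have hWB : Ws φ ≤ Bs φ := hle.2.1.trans hle.2.2.2.1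
  have hcards := card_facts hφ
  have hu2B : u ^ 2 ∈ Bs φ := hWB hu2
  -- `u g = g w u`
  have hug : ∀ g ∈ Bs φ, ∃ w ∈ Ws φ, u * g = g * w * u := by
    intro g hg
    obtain ⟨w, hw, h⟩ := hB g hg
    refine ⟨w, hw, ?_⟩
    rw [← h]; group
  have huinv : u⁻¹ = (u ^ 2)⁻¹ * u := by group
  -- the subgroup `K = B ∪ B u`
  let K : Subgroup S :=
    { carrier := {k | k ∈ Bs φ ∨ ∃ g ∈ Bs φ, k = g * u}
      one_mem' := Or.inl (one_mem _)
      mul_mem' := by
        rintro x y (hx | ⟨g, hg, rfl⟩) (hy | ⟨g', hg', rfl⟩)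
        · exact Or.inl (mul_mem hx hy)
        · exact Or.inr ⟨x * g', mul_mem hx hg', by group⟩
        · obtain ⟨w, hw, h⟩ := hug y hy
          refine Or.inr ⟨g * (y * w), mul_mem hg (mul_mem hy (hWB hw)), ?_⟩
          rw [mul_assoc g u y, h]; group
        · obtain ⟨w, hw, h⟩ := hug g' hg'
          refine Or.inl ?_
          have e : g * u * (g' * u) = g * (g' * w) * u ^ 2 := by
            rw [mul_assoc g u (g' * u), ← mul_assoc u g' u, h]; simp only [pow_two, mul_assoc]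
          rw [e]
          exact mul_mem (mul_mem hg (mul_mem hg' (hWB hw))) hu2B
      inv_mem' := by
        rintro x (hx | ⟨g, hg, rfl⟩)
        · exact Or.inl (inv_mem hx)
        · obtain ⟨w, hw, h⟩ := hug g⁻¹ (inv_mem hg)
          refine Or.inr ⟨(u ^ 2)⁻¹ * (g⁻¹ * w), mul_mem (inv_mem hu2B)
            (mul_mem (inv_mem hg) (hWB hw)), ?_⟩
          rw [mul_inv_rev, huinv, mul_assoc ((u ^ 2)⁻¹) u g⁻¹, h]; group }
  have hKmem : ∀ k, k ∈ K ↔ (k ∈ Bs φ ∨ ∃ g ∈ Bs φ, k = g * u) := fun k => Iff.rfl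
  have hBK : Bs φ ≤ K := fun g hg => Or.inl hg
  have huK : u ∈ K := Or.inr ⟨1, one_mem _, by simp⟩
  -- every element of `K` centralises `W`
  have hcent : ∀ k ∈ K, ∀ w ∈ Ws φ, k * w * k⁻¹ = w := by
    rintro k (hk | ⟨g, hg, rfl⟩) w hw
    · have := hWc w hw k hk
      rw [← this]; group
    · have h1 := hW w hw
      have h2 := hWc w hw g hg
      have e : g * u * w * (g * u)⁻¹ = g * (u * w * u⁻¹) * g⁻¹ := by group
      rw [e, h1, ← h2]; group
  have hnorm : K ≤ normalizer (Ws φ : Set S) := by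
    intro k hk
    rw [Subgroup.mem_normalizer_iff]
    intro h
    constructor
    · intro hh
      rw [hcent k hk h hh]; exact hh
    · intro hh
      have h1 := hcent k hk _ hh
      -- `k (k h k⁻¹) k⁻¹ = k h k⁻¹` gives `k h k⁻¹ = h`
      have h2 : k * h * k⁻¹ = h := by
        have := congrArg (fun x => k⁻¹ * x * k) h1
        beta_reduce at this
        have e1 : k⁻¹ * (k * (k * h * k⁻¹) * k⁻¹) * k = k * h * k⁻¹ := by group
        have e2 : k⁻¹ * (k * h * k⁻¹) * k = h := by group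
        rw [e1, e2] at this
        exact this
      rw [← h2]; exact hh
  have hsq : ∀ k ∈ K, k ^ 2 ∈ Ws φ := by
    rintro k (hk | ⟨g, hg, rfl⟩)
    · exact hBsq k hk
    · obtain ⟨w, hw, h⟩ := hug g hg
      have e : (g * u) ^ 2 = g ^ 2 * w * u ^ 2 := by
        rw [pow_two, mul_assoc g u (g * u), ← mul_assoc u g u, h]; simp only [pow_two, mul_assoc]
      rw [e]
      exact mul_mem (mul_mem (hBsq g hg) hw) hu2
  have hbound := Cfsg.Agent.Helper22.SecRank.card_le_of_sq hr K (Ws φ) (hWB.trans hBK) hnorm hsq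
  rw [hcards.2.2.1] at hbound
  -- but `|K| ≥ 128`
  have hdvd : Nat.card ↥(Bs φ) ∣ Nat.card ↥K := Subgroup.card_dvd_of_le hBK
  rw [hcards.2.1] at hdvd
  have hne : Nat.card ↥K ≠ 64 := by
    intro h
    have : Bs φ = K := by
      apply Subgroup.eq_of_le_of_card_ge hBK
      rw [h, hcards.2.1]
    exact huB (this ▸ huK)
  have hpos : 0 < Nat.card ↥K := Nat.card_pos
  obtain ⟨m, hm⟩ := hdvd
  omega

end Cfsg.Agent.Helper12.S02
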