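import Mathlib
import Cfsg.Agent.Lib.S02.S02Defs
import Cfsg.Agent.Lib.S02.CFMAIN
import Cfsg.Agent.Lib.S02.KSWAP
import Cfsg.Agent.Lib.S02.RK1
import Cfsg.Agent.Lib.S02.RK2
import Cfsg.Agent.Lib.S02.KINV
import Cfsg.Agent.Lib.S02.KMUL
import Cfsg.Agent.Lib.S02.MGEN
import Cfsg.Agent.Lib.S02.MLE

/-! S4402 design (helper12), piece KEY.  See plans/S4402_plan.md. -/

set_option autoImplicit false

namespace Cfsg.Agent.Helper12.S02

open Subgroup

/-- THE KEY LEMMA: no `y ∉ P` with `y² ∈ P` normalises `P` and one of `V₁`, `V₂`.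
(`both_of_one`, `fix_main` give `u ∈ {y, y t}`; `u ∉ P`, `u² ∈ P` (`(y t)² = y² (y⁻¹ t y) t`);
`sq_mem_W`, `rank_contra`.) -/
theorem key {S : Type*} [Group S] [Finite S] (hr : Cfsg.SectionalPRankLE 2 4 S)
    {P : Subgroup S} {φ : W3 →* S} (hφ : WD P φ) (y : S) (hyP : NormBy y P) (hy2 : y ^ 2 ∈ P)
    (hyn : y ∉ P) (hyV : NormBy y (V1s φ) ∨ NormBy y (V2s φ)) : False := by
  obtain ⟨h1, h2⟩ := both_of_one hφ y hyP hyV
  obtain ⟨u, hu, hB, hW⟩ := fix_main hφ y hyP h1 h2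
  have htP : φ t0 ∈ P := by
    rw [← hφ.range_eq]
    exact ⟨t0, rfl⟩
  have hBP : Bs φ ≤ P := (le_facts hφ).2.2.2.2.2.1
  have huP : u ∉ P := by
    rcases hu with h | h
    · rw [h]
      exact hyn
    · rw [h]
      intro hmem
      apply hyn
      have h3 : y = y * φ t0 * (φ t0)⁻¹ := by group
      rw [h3]
      exact P.mul_mem hmem (P.inv_mem htP)
  have hu2 : u ^ 2 ∈ P := by
    rcases hu with h | h
    · rw [h]
      exact hy2
    · rw [h]
      have h3 : (y * φ t0) ^ 2 = y ^ 2 * (y⁻¹ * φ t0 * y⁻¹⁻¹) * φ t0 := by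
        rw [pow_two, pow_two]
        group
      rw [h3]
      exact P.mul_mem (P.mul_mem hy2 ((normBy_inv hyP).1 _ htP)) htP
  have hu2W : u ^ 2 ∈ Ws φ := sq_mem_W hφ u hu2 hB hW
  exact rank_contra hr hφ u (fun h => huP (hBP h)) hu2W hB hW

end Cfsg.Agent.Helper12.S02
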