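import Mathlib
import Cfsg.Agent.Lib.S02.S02Defs

/-! S4402 design (helper12), piece MCENT.  See plans/S4402_plan.md. -/

set_option autoImplicit false

namespace Cfsg.Agent.Helper12.S02

open Subgroup

set_option maxRecDepth 1000000 in
/-- `Z0` is central in `W3` -/
theorem s02_mcent_Z0_central : ∀ g : W3, g ∈ Z0 → ∀ h : W3, h * g = g * h := by decide +kernel

/-- `Z(P) = Zs φ` (in `W3`: `center_W3`) -/
theorem center_P {S : Type*} [Group S] {P : Subgroup S} {φ : W3 →* S} (hφ : WD P φ) :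
    (Subgroup.center ↥P).map P.subtype = Zs φ := by
  ext x
  constructor
  · rintro ⟨⟨p, hpP⟩, hpc, rfl⟩
    have hpc := Subgroup.mem_center_iff.mp (SetLike.mem_coe.mp hpc)
    have hp' := hpP
    rw [← hφ.range_eq] at hp'
    obtain ⟨g, rfl⟩ := hp'
    refine ⟨g, center_W3 g ?_, rfl⟩
    intro h
    apply hφ.inj
    rw [map_mul, map_mul]
    have hhP : φ h ∈ P := by rw [← hφ.range_eq]; exact ⟨h, rfl⟩
    have h1 := hpc ⟨φ h, hhP⟩
    exact congrArg Subtype.val h1
  · rintro ⟨g, hg, rfl⟩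
    have hgP : φ g ∈ P := by rw [← hφ.range_eq]; exact ⟨g, rfl⟩
    refine ⟨⟨φ g, hgP⟩, SetLike.mem_coe.mpr (Subgroup.mem_center_iff.mpr ?_), rfl⟩
    rintro ⟨p, hpP⟩
    have hp' := hpP
    rw [← hφ.range_eq] at hp'
    obtain ⟨h, rfl⟩ := hp'
    apply Subtype.ext
    show φ h * φ g = φ g * φ h
    rw [← map_mul, ← map_mul, s02_mcent_Z0_central g hg h]

end Cfsg.Agent.Helper12.S02
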