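import Mathlib
import Cfsg.Agent.Lib.S02.S02Defs

/-! S4402 design (helper12), piece MODEL.  See plans/S4402_plan.md. -/

set_option autoImplicit false

namespace Cfsg.Agent.Helper12.S02

open Subgroup

/-- a subgroup isomorphic to a Sylow 2-subgroup of `Perm (Fin 8)` is the image of an embedding of
`W3`.  (`Sylow.mulEquivIteratedWreathProduct 2 3 (Fin 8) _ C2 _ T : T ≃* IteratedWreathProduct C2 3`,
and `IteratedWreathProduct C2 3` is definitionally `W3`, group structure included.) -/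
theorem exists_model {S : Type*} [Group S] (P : Subgroup S)
    (hP : ∃ T : Sylow 2 (Equiv.Perm (Fin 8)),
      Nonempty (↥P ≃* ↥(T : Subgroup (Equiv.Perm (Fin 8))))) :
    ∃ φ : W3 →* S, WD P φ := by
  obtain ⟨T, ⟨e⟩⟩ := hP
  have h8 : Nat.card (Fin 8) = 2 ^ 3 := by simp
  have h2 : Nat.card C2 = 2 := by simp
  let e2 : ↥(T : Subgroup (Equiv.Perm (Fin 8))) ≃* IteratedWreathProduct C2 3 :=
    Sylow.mulEquivIteratedWreathProduct 2 3 (Fin 8) h8 C2 h2 T
  let ψ0 : IteratedWreathProduct C2 3 ≃* ↥P := (e.trans e2).symm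
  let ψ : W3 ≃* ↥P := ψ0
  refine ⟨P.subtype.comp ψ.toMonoidHom, ⟨?_, ?_⟩⟩
  · exact (Subgroup.subtype_injective P).comp ψ.injective
  · rw [MonoidHom.range_comp]
    have : ψ.toMonoidHom.range = ⊤ := MonoidHom.range_eq_top.mpr ψ.surjective
    rw [this, ← MonoidHom.range_eq_map, Subgroup.range_subtype]

end Cfsg.Agent.Helper12.S02
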