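import Mathlib
import Cfsg.Agent.Lib.S02.S02Defs

/-! S4402 design (helper12), piece MODELBACK.  See plans/S4402_plan.md. -/

set_option autoImplicit false

namespace Cfsg.Agent.Helper12.S02

open Subgroup

/-- a group isomorphic to `W3` is isomorphic to a Sylow 2-subgroup of `Perm (Fin 8)` -/
theorem equiv_sylow_of_equiv_W3 {G : Type*} [Group G] (h : Nonempty (G ≃* W3)) :
    ∃ T : Sylow 2 (Equiv.Perm (Fin 8)),
      Nonempty (G ≃* ↥(T : Subgroup (Equiv.Perm (Fin 8)))) := by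
  haveI : Fact (Nat.Prime 2) := ⟨Nat.prime_two⟩
  obtain ⟨e⟩ := h
  obtain ⟨T⟩ : Nonempty (Sylow 2 (Equiv.Perm (Fin 8))) := inferInstance
  have hα : Nat.card (Fin 8) = 2 ^ 3 := by rw [Nat.card_fin]; norm_num
  have hC : Nat.card C2 = 2 := by
    rw [Nat.card_eq_fintype_card]
    rfl
  have f : ↥(T : Subgroup (Equiv.Perm (Fin 8))) ≃* IteratedWreathProduct C2 3 :=
    Sylow.mulEquivIteratedWreathProduct 2 3 (Fin 8) hα C2 hC T
  have f' : ↥(T : Subgroup (Equiv.Perm (Fin 8))) ≃* W3 := f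
  exact ⟨T, ⟨e.trans f'.symm⟩⟩

end Cfsg.Agent.Helper12.S02
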