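import Mathlib
import Cfsg.Agent.Lib.S02.S02Defs

/-! S4402 design (helper12), piece MPEQ.  See plans/S4402_plan.md. -/

set_option autoImplicit false

namespace Cfsg.Agent.Helper12.S02

open Subgroup

set_option maxRecDepth 1000000 in
theorem s02_mpeq_cases : ∀ w : W3, w ∈ B0 ∨ w * t0⁻¹ ∈ B0 := by decide +kernel

set_option maxRecDepth 1000000 in
theorem s02_mpeq_W0_conj : ∀ y : W3, y ∈ W0 → ∀ w : W3, w * y * w⁻¹ ∈ W0 := by decide +kernel

set_option maxRecDepth 1000000 in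
theorem s02_mpeq_Z0_comm : ∀ c : W3, c ∈ Z0 → ∀ w : W3, c * w = w * c := by decide +kernel

theorem s02_mpeq_B0_conj (y : W3) (hy : y ∈ B0) (w : W3) : w * y * w⁻¹ ∈ B0 := by
  have hn : (RegularWreathProduct.rightHom (D := W2) (Q := C2)).ker.Normal :=
    MonoidHom.normal_ker _
  exact hn.conj_mem y hy w

/-- `P = B ∪ B t`, and `t` (like every element of `P`) normalises `B`, `W` -/
theorem p_eq {S : Type*} [Group S] {P : Subgroup S} {φ : W3 →* S} (hφ : WD P φ) :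
    (∀ g ∈ P, g ∈ Bs φ ∨ ∃ x ∈ Bs φ, g = x * φ t0) ∧
    (∀ g ∈ P, NormBy g (Bs φ)) ∧ (∀ g ∈ P, NormBy g (Ws φ)) ∧
    (∀ c ∈ Zs φ, ∀ g ∈ P, c * g = g * c) := by
  refine ⟨?_, ?_, ?_, ?_⟩
  · intro g hg
    rw [← hφ.range_eq] at hg
    obtain ⟨w, rfl⟩ := hg
    rcases s02_mpeq_cases w with h | h
    · exact Or.inl (Subgroup.mem_map_of_mem φ h)
    · refine Or.inr ⟨φ (w * t0⁻¹), Subgroup.mem_map_of_mem φ h, ?_⟩
      rw [← map_mul]
      congr 1
      group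
  · intro g hg
    rw [← hφ.range_eq] at hg
    obtain ⟨w, rfl⟩ := hg
    intro x hx
    obtain ⟨y, hy, rfl⟩ := hx
    have h := Subgroup.mem_map_of_mem φ (s02_mpeq_B0_conj y hy w)
    show φ w * φ y * (φ w)⁻¹ ∈ B0.map φ
    simpa only [map_mul, map_inv] using h
  · intro g hg
    rw [← hφ.range_eq] at hg
    obtain ⟨w, rfl⟩ := hg
    intro x hx
    obtain ⟨y, hy, rfl⟩ := hx
    have h := Subgroup.mem_map_of_mem φ (s02_mpeq_W0_conj y hy w)
    show φ w * φ y * (φ w)⁻¹ ∈ W0.map φ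
    simpa only [map_mul, map_inv] using h
  · intro c hc g hg
    rw [← hφ.range_eq] at hg
    obtain ⟨w, rfl⟩ := hg
    obtain ⟨y, hy, rfl⟩ := hc
    have h := congrArg φ (s02_mpeq_Z0_comm y hy w)
    simpa only [map_mul] using h

end Cfsg.Agent.Helper12.S02
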