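import Mathlib
import Cfsg.Agent.Lib.S02.S02Defs
import Cfsg.Agent.Lib.S02.KEY
import Cfsg.Agent.Lib.S02.KMUL

/-! S4402 design (helper12), piece N1.  See plans/S4402_plan.md. -/

set_option autoImplicit false

namespace Cfsg.Agent.Helper12.S02

open Subgroup

/-- an element of `N_S(P)` normalising `V₁` or `V₂` lies in `P`.  (If `y ∉ P`, take `j` minimal with
`y ^ (2 ^ j) ∈ P` (`S` is a finite 2-group), `y' = y ^ (2 ^ (j-1))`: `y' ∉ P`, `y'² ∈ P`, and `y'`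
normalises `P` and the `V`; `key`.) -/
theorem mem_of_normBy_V {S : Type*} [Group S] [Finite S] (h2 : IsPGroup 2 S)
    (hr : Cfsg.SectionalPRankLE 2 4 S) {P : Subgroup S} {φ : W3 →* S} (hφ : WD P φ) (y : S)
    (hyP : NormBy y P) (hyV : NormBy y (V1s φ) ∨ NormBy y (V2s φ)) : y ∈ P := by
  classical
  by_contra hyn
  have hex : ∃ k : ℕ, y ^ 2 ^ k ∈ P := by
    obtain ⟨k, hk⟩ := h2 y
    exact ⟨k, by rw [hk]; exact P.one_mem⟩
  obtain ⟨j, hjdef⟩ : ∃ j, j = Nat.find hex := ⟨_, rfl⟩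
  have hj : y ^ 2 ^ j ∈ P := by rw [hjdef]; exact Nat.find_spec hex
  have hmin : ∀ i, i < j → y ^ 2 ^ i ∉ P := by
    intro i hi
    rw [hjdef] at hi
    exact Nat.find_min hex hi
  have hj0 : j ≠ 0 := by
    rintro rfl
    apply hyn
    simpa using hj
  obtain ⟨i, rfl⟩ : ∃ i, j = i + 1 := Nat.exists_eq_succ_of_ne_zero hj0
  have hy'n : y ^ 2 ^ i ∉ P := hmin i (Nat.lt_succ_self i)
  have hy'2 : (y ^ 2 ^ i) ^ 2 ∈ P := by
    rw [← pow_mul, ← pow_succ]; exact hj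
  have hy'P : NormBy (y ^ 2 ^ i) P := (normBy_mul hyP hyP).2 _
  have hy'V : NormBy (y ^ 2 ^ i) (V1s φ) ∨ NormBy (y ^ 2 ^ i) (V2s φ) := by
    rcases hyV with h | h
    · exact Or.inl ((normBy_mul h h).2 _)
    · exact Or.inr ((normBy_mul h h).2 _)
  exact key hr hφ (y ^ 2 ^ i) hy'P hy'2 hy'n hy'V

end Cfsg.Agent.Helper12.S02
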