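import Mathlib
import Cfsg.Agent.Lib.S02.S02Defs
import Cfsg.Agent.Lib.S02.N1
import Cfsg.Agent.Lib.S02.KSWAP
import Cfsg.Agent.Lib.S02.KINV
import Cfsg.Agent.Lib.S02.KMUL
import Cfsg.Agent.Lib.S02.MCARD

/-! S4402 design (helper12), piece N2.  See plans/S4402_plan.md. -/

set_option autoImplicit false

namespace Cfsg.Agent.Helper12.S02

open Subgroup

/-- two elements of `N_S(P) − P` differ by an element of `P`: both swap `V₁`, `V₂` (`swap_of_not`,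
`mem_of_normBy_V`), so `y₁⁻¹ y₂` normalises `V₁`. -/
theorem inv_mul_mem {S : Type*} [Group S] [Finite S] (h2 : IsPGroup 2 S)
    (hr : Cfsg.SectionalPRankLE 2 4 S) {P : Subgroup S} {φ : W3 →* S} (hφ : WD P φ) (y₁ y₂ : S)
    (h1 : NormBy y₁ P) (h2' : NormBy y₂ P) (hn1 : y₁ ∉ P) (hn2 : y₂ ∉ P) : y₁⁻¹ * y₂ ∈ P := by
  have hnv1 : ¬ NormBy y₁ (V1s φ) := fun h => hn1 (mem_of_normBy_V h2 hr hφ y₁ h1 (Or.inl h))
  have hnv2 : ¬ NormBy y₂ (V1s φ) := fun h => hn2 (mem_of_normBy_V h2 hr hφ y₂ h2' (Or.inl h))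
  obtain ⟨s1a, s1b⟩ := swap_of_not hφ y₁ h1 (Or.inl hnv1)
  obtain ⟨s2a, -⟩ := swap_of_not hφ y₂ h2' (Or.inl hnv2)
  have hN12 : NormBy (y₁ * y₁) (V2s φ) := by
    intro w hw
    have e : y₁ * y₁ * w * (y₁ * y₁)⁻¹ = y₁ * (y₁ * w * y₁⁻¹) * y₁⁻¹ := by group
    rw [e]
    exact s1a _ (s1b w hw)
  have hN12i : NormBy (y₁ * y₁)⁻¹ (V2s φ) := (normBy_inv hN12).1
  have hback : ∀ w ∈ V2s φ, y₁⁻¹ * w * y₁ ∈ V1s φ := by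
    intro w hw
    have e : y₁⁻¹ * w * y₁ = y₁ * ((y₁ * y₁)⁻¹ * w * (y₁ * y₁)⁻¹⁻¹) * y₁⁻¹ := by group
    rw [e]
    exact s1b _ (hN12i w hw)
  have hV : NormBy (y₁⁻¹ * y₂) (V1s φ) := by
    intro v hv
    have e : y₁⁻¹ * y₂ * v * (y₁⁻¹ * y₂)⁻¹ = y₁⁻¹ * (y₂ * v * y₂⁻¹) * y₁ := by group
    rw [e]
    exact hback _ (s2a v hv)
  have hP : NormBy (y₁⁻¹ * y₂) P := (normBy_mul (normBy_inv h1).1 h2').1
  exact mem_of_normBy_V h2 hr hφ (y₁⁻¹ * y₂) hP (Or.inl hV)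

end Cfsg.Agent.Helper12.S02
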