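import Mathlib
import Cfsg.Agent.Lib.S02.S02Defs

/-! S4402 design (helper12), piece N3.  See plans/S4402_plan.md. -/

set_option autoImplicit false

namespace Cfsg.Agent.Helper12.S02

open Subgroup

/-- normalisers grow in finite `p`-groups -/
theorem exists_normalizer_not_mem {S : Type*} [Group S] [Finite S] (h2 : IsPGroup 2 S)
    (P : Subgroup S) (hPlt : P ≠ ⊤) : ∃ y ∈ normalizer (P : Set S), y ∉ P := by
  haveI : Fact (Nat.Prime 2) := ⟨Nat.prime_two⟩
  haveI : Group.IsNilpotent S := h2.isNilpotent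
  have hnc : NormalizerCondition S := normalizerCondition_of_isNilpotent
  have hlt : P < normalizer (P : Set S) := hnc P (lt_top_iff_ne_top.mpr hPlt)
  obtain ⟨y, hy, hyn⟩ := SetLike.exists_of_lt hlt
  exact ⟨y, hy, hyn⟩

/-- relative version: `P < M` gives an element of `M − P` normalising `P` -/
theorem exists_normalizer_not_mem_rel {S : Type*} [Group S] [Finite S] (h2 : IsPGroup 2 S)
    (P M : Subgroup S) (hPM : P ≤ M) (hne : P ≠ M) :
    ∃ y ∈ M, y ∈ normalizer (P : Set S) ∧ y ∉ P := by
  have h2M : IsPGroup 2 ↥M := h2.to_subgroup M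
  have hne' : P.subgroupOf M ≠ ⊤ := by
    intro h
    rw [Subgroup.subgroupOf_eq_top] at h
    exact hne (le_antisymm hPM h)
  obtain ⟨y, hy, hyn⟩ := exists_normalizer_not_mem h2M (P.subgroupOf M) hne'
  refine ⟨(y : S), y.2, ?_, ?_⟩
  · rw [Subgroup.mem_normalizer_iff]
    intro h
    constructor
    · intro hh
      have := (Subgroup.mem_normalizer_iff.mp hy ⟨h, hPM hh⟩).mp
        (by rw [Subgroup.mem_subgroupOf]; exact hh)
      rw [Subgroup.mem_subgroupOf] at this
      simpa using this
    · intro hh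
      -- `y h y⁻¹ ∈ P ≤ M`, so `h ∈ M`
      have hhM : h ∈ M := by
        have h1 : (y : S) * h * (y : S)⁻¹ ∈ M := hPM hh
        have h2' : h = (y : S)⁻¹ * ((y : S) * h * (y : S)⁻¹) * (y : S) := by group
        rw [h2']
        exact M.mul_mem (M.mul_mem (M.inv_mem y.2) h1) y.2
      have := (Subgroup.mem_normalizer_iff.mp hy ⟨h, hhM⟩).mpr
        (by rw [Subgroup.mem_subgroupOf]; simpa using hh)
      rw [Subgroup.mem_subgroupOf] at this
      exact this
  · intro hyP
    apply hyn
    rw [Subgroup.mem_subgroupOf]; exact hyP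

end Cfsg.Agent.Helper12.S02
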