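import Mathlib
import Cfsg.Agent.Lib.S02.S02Defs

/-! S4402 design (helper12), piece N4.  See plans/S4402_plan.md. -/

set_option autoImplicit false

namespace Cfsg.Agent.Helper12.S02

open Subgroup

/-- index 2 criterion -/
theorem relIndex_eq_two {S : Type*} [Group S] (H K : Subgroup S) (hHK : H ≤ K)
    (hne : ∃ y ∈ K, y ∉ H)
    (h : ∀ y₁ ∈ K, ∀ y₂ ∈ K, y₁ ∉ H → y₂ ∉ H → y₁⁻¹ * y₂ ∈ H) : H.relIndex K = 2 := by
  obtain ⟨y, hyK, hyH⟩ := hne
  rw [Subgroup.relIndex]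
  rw [Subgroup.index_eq_two_iff]
  refine ⟨⟨y, hyK⟩, ?_⟩
  intro b
  simp only [Subgroup.mem_subgroupOf, Subgroup.coe_mul]
  by_cases hb : (b : S) ∈ H
  · -- b ∈ H : then b * y ∉ H
    refine Or.inr ⟨hb, ?_⟩
    intro hby
    apply hyH
    have : y = (b : S)⁻¹ * ((b : S) * y) := by group
    rw [this]; exact H.mul_mem (H.inv_mem hb) hby
  · refine Or.inl ⟨?_, hb⟩
    have hbinv : ((b : S))⁻¹ ∉ H := fun hh => hb (by simpa using H.inv_mem hh)
    have := h (b : S)⁻¹ (K.inv_mem b.2) y hyK hbinv hyH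
    simpa using this

end Cfsg.Agent.Helper12.S02
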