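import Mathlib
import Cfsg.Agent.Lib.S02.S02Defs
import Cfsg.Agent.Lib.S02.N1
import Cfsg.Agent.Lib.S02.N3
import Cfsg.Agent.Lib.S02.MVPROP
import Cfsg.Agent.Lib.S02.KMUL

/-! S4402 design (helper12), piece N5.  See plans/S4402_plan.md. -/

set_option autoImplicit false

namespace Cfsg.Agent.Helper12.S02

open Subgroup

/-- `N_S(V) = P` for `V = V₁, V₂`.  (`⊇` by `v_props`; if `P < M = N_S(V)` then
`exists_normalizer_not_mem_rel` gives `y ∈ M − P` normalising `P`, contradicting
`mem_of_normBy_V`.) -/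
theorem normalizer_V {S : Type*} [Group S] [Finite S] (h2 : IsPGroup 2 S)
    (hr : Cfsg.SectionalPRankLE 2 4 S) {P : Subgroup S} {φ : W3 →* S} (hφ : WD P φ)
    (V : Subgroup S) (hV : V = V1s φ ∨ V = V2s φ) : normalizer (V : Set S) = P := by
  obtain ⟨hn1, hn2, _⟩ := v_props hφ
  have hPM : P ≤ normalizer (V : Set S) := by
    intro g hg
    apply mem_normalizer_of_normBy
    rcases hV with rfl | rfl
    · exact hn1 g hg
    · exact hn2 g hg
  by_contra hne
  obtain ⟨y, hyM, hyN, hyP⟩ :=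
    exists_normalizer_not_mem_rel h2 P (normalizer (V : Set S)) hPM (fun h => hne h.symm)
  apply hyP
  apply mem_of_normBy_V h2 hr hφ y (normBy_of_mem_normalizer hyN)
  have hyV := normBy_of_mem_normalizer hyM
  rcases hV with rfl | rfl
  · exact Or.inl hyV
  · exact Or.inr hyV

end Cfsg.Agent.Helper12.S02
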