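import Mathlib
import Cfsg.Agent.Lib.S02.S02Defs
import Cfsg.Agent.Lib.S02.N1
import Cfsg.Agent.Lib.S02.MCENT
import Cfsg.Agent.Lib.S02.MCARD

/-! S4402 design (helper12), piece N6.  See plans/S4402_plan.md. -/

set_option autoImplicit false

namespace Cfsg.Agent.Helper12.S02

open Subgroup

/-- `Z(S) = Z(P) = Zs φ`.  (`c ∈ Z(S)` normalises `P` and `V₁`, so `c ∈ P` by `mem_of_normBy_V`, so
`c ∈ Z(P) = Zs φ` (`center_P`); `Z(S) ≠ 1` (`IsPGroup.center_nontrivial`, `S` is nontrivial as
`|P| = 128`) and `|Zs φ| = 2`.) -/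
theorem center_eq {S : Type*} [Group S] [Finite S] (h2 : IsPGroup 2 S)
    (hr : Cfsg.SectionalPRankLE 2 4 S) {P : Subgroup S} {φ : W3 →* S} (hφ : WD P φ) :
    Subgroup.center S = Zs φ := by
  have hle : Subgroup.center S ≤ Zs φ := by
    intro c hc
    rw [Subgroup.mem_center_iff] at hc
    have hcx : ∀ x : S, c * x * c⁻¹ = x := by
      intro x
      rw [← hc x]
      group
    have hcP : c ∈ P := by
      apply mem_of_normBy_V h2 hr hφ c
      · intro x hx
        rw [hcx]
        exact hx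
      · left
        intro x hx
        rw [hcx]
        exact hx
    rw [← center_P hφ]
    refine ⟨⟨c, hcP⟩, SetLike.mem_coe.mpr (Subgroup.mem_center_iff.mpr ?_), rfl⟩
    rintro ⟨p, hp⟩
    apply Subtype.ext
    exact hc p
  have hnt : Nontrivial S := ⟨⟨φ t0, 1, by
      intro h
      have h1 : t0 = 1 := hφ.inj (by rw [h, map_one])
      exact absurd h1 (by decide)⟩⟩
  have hf2 : Fact (Nat.Prime 2) := ⟨Nat.prime_two⟩
  have hcn : Nontrivial (Subgroup.center S) := h2.center_nontrivial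
  obtain ⟨_, _, _, hZ, _, _⟩ := card_facts hφ
  apply Subgroup.eq_of_le_of_card_ge hle
  rw [hZ]
  exact Finite.one_lt_card

end Cfsg.Agent.Helper12.S02
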