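import Mathlib
import Cfsg.Agent.Lib.S02.S02Defs
import Cfsg.Agent.Lib.S02.MGEN
import Cfsg.Agent.Lib.S02.MREL
import Cfsg.Agent.Lib.S02.MWCEN

/-! S4402 design (helper12), piece NM1A.  See plans/S4402_plan.md. -/

set_option autoImplicit false

namespace Cfsg.Agent.Helper12.S02

open Subgroup

set_option maxRecDepth 1000000 in
/-- the choice of the correcting element `g0 = b0^i a0^k` in the model -/
theorem s02_nm1a_W3 : ∀ wa : W3, wa ∈ W0 → ∀ wb : W3, wb ∈ W0 →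
    ∃ g0 : W3, (g0 = 1 ∨ g0 = b0 ∨ g0 = a0 ∨ g0 = b0 * a0) ∧ g0 ∈ B0 ∧
      a0⁻¹ * (g0 * a0 * g0⁻¹) ∈ W0 ∧ b0⁻¹ * (g0 * b0 * g0⁻¹) ∈ W0 ∧
      g0 * a0' * g0⁻¹ = a0' ∧ g0 * b0' * g0⁻¹ = b0' ∧
      (wa * (a0⁻¹ * (g0 * a0 * g0⁻¹)) = 1 ∨ wa * (a0⁻¹ * (g0 * a0 * g0⁻¹)) = z0') ∧
      (wb * (b0⁻¹ * (g0 * b0 * g0⁻¹)) = 1 ∨ wb * (b0⁻¹ * (g0 * b0 * g0⁻¹)) = z0') := by
  decide +kernel

/-- normalise the `D`-side by an inner automorphism: if `u a u⁻¹ = a z^i z'^j` and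
`u b u⁻¹ = ab z^k z'^l` then `g = b^i a^k` works: `(u g) x (u g)⁻¹ = u (g x g⁻¹) u⁻¹`,
`b a b⁻¹ = a z`, `a b a⁻¹ = z b`, and `g ∈ D` commutes with `a', b'`. -/
theorem norm_D {S : Type*} [Group S] {P : Subgroup S} {φ : W3 →* S}
    (hφ : WD P φ) (u : S) (h : SwapForm φ u) : ∃ g ∈ Bs φ, SwapForm1 φ (u * g) := by
  obtain ⟨wa, hwa, hua⟩ := h.ha
  obtain ⟨wb, hwb, hub⟩ := h.hb
  obtain ⟨wa0, hwa0, rfl⟩ := hwa
  obtain ⟨wb0, hwb0, rfl⟩ := hwb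
  obtain ⟨g0, -, hgB, hca, hcb, hga', hgb', hA, hB⟩ := s02_nm1a_W3 wa0 hwa0 wb0 hwb0
  obtain ⟨ca, hcad⟩ : ∃ ca : W3, ca = a0⁻¹ * (g0 * a0 * g0⁻¹) := ⟨_, rfl⟩
  obtain ⟨cb, hcbd⟩ : ∃ cb : W3, cb = b0⁻¹ * (g0 * b0 * g0⁻¹) := ⟨_, rfl⟩
  rw [← hcad] at hca hA
  rw [← hcbd] at hcb hB
  have ea : g0 * a0 * g0⁻¹ = a0 * ca := by rw [hcad]; group
  have eb : g0 * b0 * g0⁻¹ = b0 * cb := by rw [hcbd]; group
  have hconj : ∀ x : S, u * φ g0 * x * (u * φ g0)⁻¹ = u * (φ g0 * x * (φ g0)⁻¹) * u⁻¹ := by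
    intro x
    group
  have hgx : ∀ x0 : W3, φ g0 * φ x0 * (φ g0)⁻¹ = φ (g0 * x0 * g0⁻¹) := by
    intro x0
    rw [map_mul, map_mul, map_inv]
  have hsplit : ∀ x y : S, u * (x * y) * u⁻¹ = (u * x * u⁻¹) * (u * y * u⁻¹) := by
    intro x y
    group
  obtain ⟨hWc, -, -⟩ := w_central hφ
  refine ⟨φ g0, Subgroup.mem_map_of_mem φ hgB, ?_⟩
  constructor
  · have e2 : u * φ g0 * φ a0 * (u * φ g0)⁻¹ = φ a0 * φ (wa0 * ca) := by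
      rw [hconj, hgx, ea, map_mul, hsplit, hua, h.hW _ (Subgroup.mem_map_of_mem φ hca), map_mul,
        mul_assoc]
    rcases hA with hA | hA
    · left
      rw [e2, hA, map_one, mul_one]
    · right
      rw [e2, hA]
  · have e2 : u * φ g0 * φ b0 * (u * φ g0)⁻¹ = φ a0 * φ b0 * φ (wb0 * cb) := by
      rw [hconj, hgx, eb, map_mul, hsplit, hub, h.hW _ (Subgroup.mem_map_of_mem φ hcb), map_mul,
        mul_assoc (φ a0 * φ b0)]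
    rcases hB with hB | hB
    · left
      rw [e2, hB, map_one, mul_one]
    · right
      rw [e2, hB]
  · obtain ⟨w, hw, huw⟩ := h.ha'
    refine ⟨w, hw, ?_⟩
    rw [hconj, hgx, hga', huw]
  · obtain ⟨w, hw, huw⟩ := h.hb'
    refine ⟨w, hw, ?_⟩
    rw [hconj, hgx, hgb', huw]
  · intro w hw
    have h1 : φ g0 * w * (φ g0)⁻¹ = w := by
      rw [← hWc w hw (φ g0) (Subgroup.mem_map_of_mem φ hgB), mul_inv_cancel_right]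
    rw [hconj, h1]
    exact h.hW w hw

end Cfsg.Agent.Helper12.S02
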