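import Mathlib
import Cfsg.Agent.Lib.S02.S02Defs
import Cfsg.Agent.Lib.S02.MGEN
import Cfsg.Agent.Lib.S02.MREL
import Cfsg.Agent.Lib.S02.MWCEN

/-! S4402 design (helper12), piece NM1B.  See plans/S4402_plan.md. -/

set_option autoImplicit false

namespace Cfsg.Agent.Helper12.S02

open Subgroup

/-- the `z0'`-component of an element of `W0` -/
def s02_nm1b_c (w : W3) : W3 := if w = z0' ∨ w = z0 * z0' then z0' else 1

/-- the correcting element `b'^j a'^l` -/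
def s02_nm1b_g (w1 w2 : W3) : W3 :=
  (if w1 = z0' ∨ w1 = z0 * z0' then b0' else 1) * (if w2 = z0' ∨ w2 = z0 * z0' then a0' else 1)

set_option maxRecDepth 1000000 in
theorem s02_nm1b_key : ∀ w1 : W3, w1 ∈ W0 → ∀ w2 : W3, w2 ∈ W0 →
    (s02_nm1b_g w1 w2 ∈ B0 ∧
     s02_nm1b_g w1 w2 * a0 * (s02_nm1b_g w1 w2)⁻¹ = a0 ∧
     s02_nm1b_g w1 w2 * b0 * (s02_nm1b_g w1 w2)⁻¹ = b0 ∧
     s02_nm1b_g w1 w2 * a0' * (s02_nm1b_g w1 w2)⁻¹ = a0' * s02_nm1b_c w1 ∧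
     s02_nm1b_g w1 w2 * b0' * (s02_nm1b_g w1 w2)⁻¹ = b0' * s02_nm1b_c w2 ∧
     s02_nm1b_c w1 ∈ W0 ∧ s02_nm1b_c w2 ∈ W0 ∧
     (w1 * s02_nm1b_c w1 = 1 ∨ w1 * s02_nm1b_c w1 = z0) ∧
     (w2 * s02_nm1b_c w2 = 1 ∨ w2 * s02_nm1b_c w2 = z0)) := by decide +kernel

/-- normalise the `D'`-side likewise with `g = b'^i a'^k` (which commutes with `a, b`) -/
theorem norm_D' {S : Type*} [Group S] {P : Subgroup S} {φ : W3 →* S}
    (hφ : WD P φ) (u : S) (h : SwapForm1 φ u) : ∃ g ∈ Bs φ, SwapForm2 φ (u * g) := by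
  obtain ⟨hWc, -, -⟩ := w_central hφ
  obtain ⟨w1, ⟨w10, hw10, rfl⟩, hw1⟩ := h.ha'
  obtain ⟨w2, ⟨w20, hw20, rfl⟩, hw2⟩ := h.hb'
  obtain ⟨k1, k2, k3, k4, k5, k6, k7, k8, k9⟩ := s02_nm1b_key w10 hw10 w20 hw20
  have hgB : φ (s02_nm1b_g w10 w20) ∈ Bs φ := mem_map_of_mem φ k1
  have hconj : ∀ x0 : W3, (u * φ (s02_nm1b_g w10 w20)) * φ x0 * (u * φ (s02_nm1b_g w10 w20))⁻¹ =
      u * φ (s02_nm1b_g w10 w20 * x0 * (s02_nm1b_g w10 w20)⁻¹) * u⁻¹ := by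
    intro x0
    simp only [map_mul, map_inv]
    group
  have hsplit : ∀ x y : S, u * (x * y) * u⁻¹ = (u * x * u⁻¹) * (u * y * u⁻¹) := by
    intro x y; group
  have hc1 : u * φ (s02_nm1b_c w10) * u⁻¹ = φ (s02_nm1b_c w10) :=
    h.hW _ (mem_map_of_mem φ k6)
  have hc2 : u * φ (s02_nm1b_c w20) * u⁻¹ = φ (s02_nm1b_c w20) :=
    h.hW _ (mem_map_of_mem φ k7)
  refine ⟨φ (s02_nm1b_g w10 w20), hgB, ?_, ?_, ?_, ?_, ?_⟩
  · rw [hconj, k2]; exact h.ha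
  · rw [hconj, k3]; exact h.hb
  · rw [hconj, k4, map_mul, hsplit, hw1, hc1, mul_assoc, ← map_mul φ w10]
    rcases k8 with k8 | k8
    · left; rw [k8, map_one, mul_one]
    · right; rw [k8]
  · rw [hconj, k5, map_mul, hsplit, hw2, hc2, mul_assoc, ← map_mul φ w20]
    rcases k9 with k9 | k9
    · left; rw [k9, map_one, mul_one]
    · right; rw [k9]
  · intro w hw
    have h1 : (u * φ (s02_nm1b_g w10 w20)) * w * (u * φ (s02_nm1b_g w10 w20))⁻¹ =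
        u * (φ (s02_nm1b_g w10 w20) * w * (φ (s02_nm1b_g w10 w20))⁻¹) * u⁻¹ := by group
    rw [h1, ← hWc w hw _ hgB, mul_inv_cancel_right]
    exact h.hW w hw

end Cfsg.Agent.Helper12.S02
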