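import Mathlib
import Cfsg.Agent.Lib.S02.S02Defs

/-! S4402 design (helper12), piece RECW.  See plans/S4402_plan.md. -/

set_option autoImplicit false

namespace Cfsg.Agent.Helper12.S02

open Subgroup

theorem s02_recw_c2_cases : ∀ q : C2, q = 1 ∨ q = σ := by decide

theorem s02_recw_sigma_ne : (σ : C2) ≠ 1 := by decide

theorem s02_recw_sigma_inv : (σ : C2)⁻¹ = σ := by decide

theorem s02_recw_sigma_sq : (σ : C2) * σ = 1 := by decide

theorem s02_recw_aux {G : Type*} [Group G] (A B c : G) (hAB : A * B = B * A)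
    (h : A * B * c = 1) : c = A⁻¹ * B⁻¹ := by
  have h2 : c = (A * B)⁻¹ := (inv_eq_of_mul_eq_one_right h).symm
  rw [h2, hAB, mul_inv_rev]

/-- recognition of a regular wreath product with `C2`: `G` of order `2|X|²` containing a copy
`j X` of `X` and an involution `c` such that `j X` and `c (j X) c⁻¹` commute elementwise and meet
trivially. (`K = j X · c (j X) c⁻¹` has order `|X|²`; `c ∉ K` since otherwise `c` would normalise the
direct factor `j X ≠ 1` of `K`; the map `(f, q) ↦ j (f 1) * (c * j (f σ) * c⁻¹) * c ^ q` is an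
injective homomorphism (check against `RegularWreathProduct.mul_def`) between groups of equal
finite order.) -/
theorem wreath_rec {G X : Type*} [Group G] [Group X] [Finite X] [Nontrivial X]
    (j : X →* G) (hj : Function.Injective j) (c : G) (hc2 : c ^ 2 = 1)
    (hcomm : ∀ x y : X, j x * (c * j y * c⁻¹) = (c * j y * c⁻¹) * j x)
    (hint : ∀ x y : X, j x = c * j y * c⁻¹ → x = 1)
    (hcard : Nat.card G = 2 * Nat.card X ^ 2) :
    Nonempty (G ≃* RegularWreathProduct X C2) := by
  classical
  have hcc : c * c = 1 := by rw [← pow_two]; exact hc2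
  have hcinv : c⁻¹ = c := inv_eq_of_mul_eq_one_right hcc
  -- B x := c * j x * c⁻¹
  have hBmul : ∀ x y : X, (c * j x * c⁻¹) * (c * j y * c⁻¹) = c * j (x * y) * c⁻¹ := by
    intro x y; rw [map_mul]; group
  have hcB : ∀ x : X, c * (c * j x * c⁻¹) * c⁻¹ = j x := by
    intro x
    rw [hcinv]
    calc c * (c * j x * c) * c = (c * c) * j x * (c * c) := by group
      _ = j x := by rw [hcc, one_mul, mul_one]
  -- the element map on C2
  let e : C2 → G := fun q => if q = 1 then 1 else c
  have he1 : e 1 = 1 := if_pos rfl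
  have heσ : e σ = c := if_neg s02_recw_sigma_ne
  -- the map
  let Φ : RegularWreathProduct X C2 → G := fun w =>
    j (w.left 1) * (c * j (w.left σ) * c⁻¹) * e w.right
  have hΦ : ∀ w, Φ w = j (w.left 1) * (c * j (w.left σ) * c⁻¹) * e w.right := fun _ => rfl
  have hmul : ∀ w w' : RegularWreathProduct X C2, Φ (w * w') = Φ w * Φ w' := by
    intro w w'
    obtain ⟨f, q⟩ := w
    obtain ⟨f', q'⟩ := w'
    rw [hΦ, hΦ, hΦ]
    simp only [RegularWreathProduct.mul_left, RegularWreathProduct.mul_right, Pi.mul_apply]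
    rcases s02_recw_c2_cases q with rfl | rfl
    · -- q = 1
      simp only [inv_one, one_mul, he1, mul_one, map_mul]
      have h1 := hcomm (f' 1) (f σ)
      calc j (f 1) * j (f' 1) * (c * (j (f σ) * j (f' σ)) * c⁻¹) * e q'
          = j (f 1) * (j (f' 1) * (c * j (f σ) * c⁻¹)) * (c * j (f' σ) * c⁻¹) * e q' := by group
        _ = j (f 1) * ((c * j (f σ) * c⁻¹) * j (f' 1)) * (c * j (f' σ) * c⁻¹) * e q' := by rw [h1]
        _ = j (f 1) * (c * j (f σ) * c⁻¹) * (j (f' 1) * (c * j (f' σ) * c⁻¹) * e q') := by group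
    · -- q = σ
      rw [s02_recw_sigma_inv, heσ]
      simp only [mul_one, s02_recw_sigma_sq, map_mul]
      have heq : e (σ * q') = c * e q' := by
        rcases s02_recw_c2_cases q' with rfl | rfl
        · rw [mul_one, heσ, he1, mul_one]
        · rw [s02_recw_sigma_sq, he1, heσ, hcc]
      rw [heq]
      have h1 := hcomm (f' σ) (f σ)
      have h2 : c * j (f' 1) = (c * j (f' 1) * c⁻¹) * c := by group
      have h3 : c * (c * j (f' σ) * c⁻¹) = j (f' σ) * c := by
        have := hcB (f' σ)
        calc c * (c * j (f' σ) * c⁻¹) = (c * (c * j (f' σ) * c⁻¹) * c⁻¹) * c := by group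
          _ = j (f' σ) * c := by rw [this]
      calc j (f 1) * j (f' σ) * (c * (j (f σ) * j (f' 1)) * c⁻¹) * (c * e q')
          = j (f 1) * (j (f' σ) * (c * j (f σ) * c⁻¹)) * (c * j (f' 1) * c⁻¹) * (c * e q') := by
            group
        _ = j (f 1) * ((c * j (f σ) * c⁻¹) * j (f' σ)) * (c * j (f' 1) * c⁻¹) * (c * e q') := by
            rw [h1]
        _ = j (f 1) * (c * j (f σ) * c⁻¹) * (j (f' σ) * (c * j (f' 1) * c⁻¹)) * (c * e q') := by
            group
        _ = j (f 1) * (c * j (f σ) * c⁻¹) * ((c * j (f' 1) * c⁻¹) * j (f' σ)) * (c * e q') := by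
            rw [hcomm (f' σ) (f' 1)]
        _ = j (f 1) * (c * j (f σ) * c⁻¹) * ((c * j (f' 1) * c⁻¹) * c) *
              ((c⁻¹ * j (f' σ) * c) * e q') := by group
        _ = j (f 1) * (c * j (f σ) * c⁻¹) * (c * j (f' 1)) *
              ((c * j (f' σ) * c⁻¹) * e q') := by rw [← h2, hcinv]
        _ = j (f 1) * (c * j (f σ) * c⁻¹) * c * (j (f' 1) * (c * j (f' σ) * c⁻¹) * e q') := by
            group
  let Φh : RegularWreathProduct X C2 →* G :=
    { toFun := Φ
      map_one' := by
        rw [hΦ]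
        simp only [RegularWreathProduct.one_left, RegularWreathProduct.one_right, Pi.one_apply,
          map_one, he1]
        group
      map_mul' := hmul }
  -- c is not of the form A x * B y
  have hcK : ∀ x y : X, c ≠ j x * (c * j y * c⁻¹) := by
    intro x y hxy
    obtain ⟨z, hz⟩ := exists_ne (1 : X)
    apply hz
    -- c * j z * c⁻¹ = j (x z x⁻¹)
    have h1 : c * j z * c⁻¹ = j (x * z * x⁻¹) := by
      have hc' : c⁻¹ = (c * j y * c⁻¹)⁻¹ * (j x)⁻¹ := by rw [← mul_inv_rev, ← hxy]
      calc c * j z * c⁻¹ = (j x * (c * j y * c⁻¹)) * j z * ((c * j y * c⁻¹)⁻¹ * (j x)⁻¹) := by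
            rw [← hc', ← hxy]
        _ = j x * ((c * j y * c⁻¹) * j z) * (c * j y * c⁻¹)⁻¹ * (j x)⁻¹ := by group
        _ = j x * (j z * (c * j y * c⁻¹)) * (c * j y * c⁻¹)⁻¹ * (j x)⁻¹ := by rw [hcomm z y]
        _ = j x * j z * (j x)⁻¹ := by group
        _ = j (x * z * x⁻¹) := by rw [map_mul, map_mul, map_inv]
    have h2 := hint (x * z * x⁻¹) z h1.symm
    have : z = x⁻¹ * (x * z * x⁻¹) * x := by group
    rw [this, h2]; group
  have hinj : Function.Injective Φh := by
    rw [injective_iff_map_eq_one]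
    intro w hw
    obtain ⟨f, q⟩ := w
    have hw' : j (f 1) * (c * j (f σ) * c⁻¹) * e q = 1 := hw
    rcases s02_recw_c2_cases q with rfl | rfl
    · rw [he1, mul_one] at hw'
      have h1 : j (f 1) = c * j ((f σ)⁻¹) * c⁻¹ := by
        rw [map_inv]
        have : j (f 1) = (c * j (f σ) * c⁻¹)⁻¹ := eq_inv_of_mul_eq_one_left hw'
        rw [this]; group
      have hf1 : f 1 = 1 := hint _ _ h1
      rw [hf1, map_one, one_mul] at hw'
      have hfσ : f σ = 1 := by
        apply hj
        rw [map_one]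
        have : j (f σ) = c⁻¹ * (c * j (f σ) * c⁻¹) * c := by group
        rw [this, hw']; group
      apply RegularWreathProduct.ext
      · funext x
        rcases s02_recw_c2_cases x with rfl | rfl
        · exact hf1
        · exact hfσ
      · rfl
    · exfalso
      rw [heσ] at hw'
      have h1 : c = j ((f 1)⁻¹) * (c * j ((f σ)⁻¹) * c⁻¹) := by
        have h2 : c = (j (f 1))⁻¹ * (c * j (f σ) * c⁻¹)⁻¹ :=
          s02_recw_aux _ _ _ (hcomm (f 1) (f σ)) hw'
        rw [map_inv, map_inv]
        calc c = (j (f 1))⁻¹ * (c * j (f σ) * c⁻¹)⁻¹ := h2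
          _ = (j (f 1))⁻¹ * (c * (j (f σ))⁻¹ * c⁻¹) := by group
      exact hcK _ _ h1
  -- cardinalities
  have : Finite G := by
    apply Nat.finite_of_card_ne_zero
    rw [hcard]
    have : 0 < Nat.card X := Nat.card_pos
    positivity
  have hcardW : Nat.card (RegularWreathProduct X C2) = Nat.card G := by
    rw [RegularWreathProduct.card, hcard]
    have : Nat.card C2 = 2 := by
      rw [Nat.card_eq_fintype_card]; decide
    rw [this]; ring
  have hbij : Function.Bijective Φh :=
    (Nat.bijective_iff_injective_and_card Φh).mpr ⟨hinj, hcardW⟩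
  exact ⟨(MulEquiv.ofBijective Φh hbij).symm⟩

end Cfsg.Agent.Helper12.S02
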