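import Mathlib
import Cfsg.Agent.Lib.S02.S02Defs
import Cfsg.Agent.Lib.S02.RECW

/-! S4402 design (helper12), piece RECD.  See plans/S4402_plan.md. -/

set_option autoImplicit false

namespace Cfsg.Agent.Helper12.S02

open Subgroup

/-- recognition of `D8 ≅ W2 = C2 ≀ C2`: a group generated by `s` of order 4 and an involution `t`
inverting `s`.  (Apply `wreath_rec` to the group `↥(closure {s, t})` with `X = ↥(zpowers t)` or `W1`,
`c = s * t`: `t` and `(st) t (st)⁻¹ = s² t` commute and differ; then `RegularWreathProduct.congr`.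
`W1 = PUnit ≀ᵣ C2 ≃* C2`.) -/
theorem d8_rec {G : Type*} [Group G] (s t : G) (ht : t ^ 2 = 1) (hs4 : s ^ 4 = 1)
    (hs2 : s ^ 2 ≠ 1) (hts : t * s * t⁻¹ = s⁻¹) :
    Nonempty (↥(closure ({s, t} : Set G)) ≃* W2) ∧
      Nat.card ↥(closure ({s, t} : Set G)) = 8 := by
  classical
  -- basic facts
  have htinv : t⁻¹ = t := by
    rw [inv_eq_iff_mul_eq_one, ← pow_two]; exact ht
  have hsinv : s⁻¹ = s ^ 3 := by
    rw [inv_eq_iff_mul_eq_one, ← pow_succ']; exact hs4
  have ht1 : t ≠ 1 := by
    intro h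
    rw [h] at hts
    have h1 : s = s⁻¹ := by simpa using hts
    apply hs2
    rw [pow_two]
    nth_rewrite 2 [h1]
    exact mul_inv_cancel s
  have hconj : ∀ i : ℕ, t * s ^ i = (s ^ 3) ^ i * t := by
    intro i
    have h1 : t * s ^ i * t⁻¹ = (s⁻¹) ^ i := by rw [← hts, conj_pow]
    rw [hsinv] at h1
    calc t * s ^ i = (t * s ^ i * t⁻¹) * t := by group
      _ = (s ^ 3) ^ i * t := by rw [h1]
  have hsD : s ∈ closure ({s, t} : Set G) := subset_closure (by simp)
  have htD : t ∈ closure ({s, t} : Set G) := subset_closure (by simp)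
  -- normal form
  have hform : ∀ g ∈ closure ({s, t} : Set G), ∃ i j : ℕ, g = s ^ i * t ^ j := by
    intro g hg
    induction hg using Subgroup.closure_induction_left with
    | one => exact ⟨0, 0, by simp⟩
    | mul_left x hx y hy ih =>
      obtain ⟨i, j, hy'⟩ := ih
      rw [hy']
      rcases hx with hx | hx
      · rw [hx]
        exact ⟨i + 1, j, by rw [pow_succ', mul_assoc]⟩
      · rw [Set.mem_singleton_iff.mp hx]
        refine ⟨3 * i, j + 1, ?_⟩
        rw [← mul_assoc, hconj, pow_mul, mul_assoc, ← pow_succ']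
    | inv_mul_cancel x hx y hy ih =>
      obtain ⟨i, j, hy'⟩ := ih
      rw [hy']
      rcases hx with hx | hx
      · rw [hx, hsinv]
        refine ⟨3 + i, j, ?_⟩
        rw [← mul_assoc, ← pow_add]
      · rw [Set.mem_singleton_iff.mp hx, htinv]
        refine ⟨3 * i, j + 1, ?_⟩
        rw [← mul_assoc, hconj, pow_mul, mul_assoc, ← pow_succ']
  -- the surjection from `Fin 4 × Fin 2`
  let f : Fin 4 × Fin 2 → ↥(closure ({s, t} : Set G)) := fun p =>
    ⟨s ^ (p.1 : ℕ) * t ^ (p.2 : ℕ), mul_mem (pow_mem hsD _) (pow_mem htD _)⟩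
  have hf : Function.Surjective f := by
    rintro ⟨g, hg⟩
    obtain ⟨i, j, rfl⟩ := hform g hg
    refine ⟨(⟨i % 4, Nat.mod_lt _ (by norm_num)⟩, ⟨j % 2, Nat.mod_lt _ (by norm_num)⟩), ?_⟩
    apply Subtype.ext
    show s ^ (i % 4) * t ^ (j % 2) = s ^ i * t ^ j
    rw [← pow_eq_pow_mod i hs4, ← pow_eq_pow_mod j ht]
  haveI hfin : Finite ↥(closure ({s, t} : Set G)) := Finite.of_surjective f hf
  have hle8 : Nat.card ↥(closure ({s, t} : Set G)) ≤ 8 := by
    have := Nat.card_le_card_of_surjective f hf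
    simpa [Nat.card_prod] using this
  -- order of `s`
  have hos : orderOf s = 4 := by
    have := orderOf_eq_prime_pow (x := s) (p := 2) (n := 1) (by simpa using hs2) (by simpa using hs4)
    simpa using this
  have hzs : Nat.card ↥(zpowers s) = 4 := by rw [Nat.card_zpowers, hos]
  have hzsle : zpowers s ≤ closure ({s, t} : Set G) := by rw [zpowers_le]; exact hsD
  have hdvd : 4 ∣ Nat.card ↥(closure ({s, t} : Set G)) := by
    rw [← hzs]; exact Subgroup.card_dvd_of_le hzsle
  have hpos : 0 < Nat.card ↥(closure ({s, t} : Set G)) := Nat.card_pos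
  have hne4 : Nat.card ↥(closure ({s, t} : Set G)) ≠ 4 := by
    intro h4
    have heq : zpowers s = closure ({s, t} : Set G) :=
      Subgroup.eq_of_le_of_card_ge hzsle (by rw [h4, hzs])
    have htz : t ∈ zpowers s := by rw [heq]; exact htD
    obtain ⟨k, hk⟩ := Subgroup.mem_zpowers_iff.mp htz
    have hcm : t * s = s * t := by
      rw [← hk, ← zpow_add_one, ← zpow_one_add, add_comm]
    have h1 : s = s⁻¹ := by
      rw [← hts, hcm]; group
    apply hs2
    rw [pow_two]
    nth_rewrite 2 [h1]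
    exact mul_inv_cancel s
  have hcard : Nat.card ↥(closure ({s, t} : Set G)) = 8 := by
    obtain ⟨m, hm⟩ := hdvd
    rw [hm] at hle8 hpos hne4 ⊢
    have : m = 2 := by omega
    rw [this]
  refine ⟨?_, hcard⟩
  -- the wreath product recognition
  have hX2 : Nat.card ↥(zpowers t) = 2 := by
    rw [Nat.card_zpowers]; exact orderOf_eq_prime ht ht1
  haveI : Finite ↥(zpowers t) := Nat.finite_of_card_ne_zero (by rw [hX2]; norm_num)
  haveI : Nontrivial ↥(zpowers t) := Finite.one_lt_card_iff_nontrivial.mp (by rw [hX2]; norm_num)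
  have hle : zpowers t ≤ closure ({s, t} : Set G) := by rw [zpowers_le]; exact htD
  have hmemt : ∀ x ∈ zpowers t, x = 1 ∨ x = t := by
    intro x hx
    obtain ⟨k, rfl⟩ := Subgroup.mem_zpowers_iff.mp hx
    have htt : t * t = 1 := by rw [← pow_two]; exact ht
    rcases Int.even_or_odd' k with ⟨m, hm | hm⟩
    · left
      rw [hm, zpow_mul, zpow_two, htt, one_zpow]
    · right
      rw [hm, zpow_add, zpow_mul, zpow_two, htt, one_zpow, one_mul, zpow_one]
  -- the conjugate of `t` by `s * t`
  have hw : (s * t) * t * (s * t)⁻¹ = s ^ 2 * t := by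
    have h1 : (s * t) * t * (s * t)⁻¹ = s * (t * s⁻¹) := by group
    rw [h1, hsinv, hconj 3, ← mul_assoc, ← pow_mul, ← pow_succ']
    rw [pow_eq_pow_mod _ hs4]
  have hwt : t * (s ^ 2 * t) = (s ^ 2 * t) * t := by
    have htt : t * t = 1 := by rw [← pow_two]; exact ht
    rw [← mul_assoc, hconj 2, mul_assoc, mul_assoc, htt, mul_one, mul_one, ← pow_mul]
    rw [pow_eq_pow_mod _ hs4]
  let c : ↥(closure ({s, t} : Set G)) := ⟨s * t, mul_mem hsD htD⟩
  have hc2 : c ^ 2 = 1 := by
    apply Subtype.ext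
    show (s * t) ^ 2 = 1
    have h1 : (s * t) ^ 2 = s * (t * s * t⁻¹) * (t * t) := by rw [pow_two]; group
    rw [h1, hts, ← pow_two, ht, mul_one, mul_inv_cancel]
  have hcj : ∀ y : ↥(zpowers t), ((c * Subgroup.inclusion hle y * c⁻¹ : ↥(closure ({s, t} : Set G))) : G) =
      (s * t) * (y : G) * (s * t)⁻¹ := fun y => rfl
  obtain ⟨e⟩ := wreath_rec (G := ↥(closure ({s, t} : Set G))) (X := ↥(zpowers t))
    (Subgroup.inclusion hle) (Subgroup.inclusion_injective hle) c hc2
    (by
      intro x y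
      apply Subtype.ext
      show (x : G) * ((s * t) * (y : G) * (s * t)⁻¹) = ((s * t) * (y : G) * (s * t)⁻¹) * (x : G)
      rcases hmemt _ y.2 with hy | hy
      · rw [hy]; simp
      · rcases hmemt _ x.2 with hx | hx
        · rw [hx]; simp
        · rw [hx, hy, hw]; exact hwt)
    (by
      intro x y hxy
      have h1 : (x : G) = (s * t) * (y : G) * (s * t)⁻¹ := congrArg Subtype.val hxy
      rcases hmemt _ y.2 with hy | hy
      · rw [hy] at h1
        apply Subtype.ext
        rw [h1]; simp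
      · rcases hmemt _ x.2 with hx | hx
        · exact Subtype.ext hx
        · exfalso
          rw [hx, hy, hw] at h1
          apply hs2
          have : s ^ 2 * t = 1 * t := by rw [one_mul]; exact h1.symm
          exact mul_right_cancel this)
    (by rw [hcard, hX2]; norm_num)
  have hW1 : Nat.card W1 = 2 := by
    rw [Nat.card_eq_fintype_card]; decide
  exact ⟨e.trans (RegularWreathProduct.congr (mulEquivOfPrimeCardEq (p := 2) hX2 hW1)
    (MulEquiv.refl C2))⟩

end Cfsg.Agent.Helper12.S02
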