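import Mathlib
import Cfsg.Agent.Lib.S02.S02Defs

/-! S4402 design (helper12), piece RECDC.  See plans/S4402_plan.md. -/

set_option autoImplicit false

namespace Cfsg.Agent.Helper12.S02

open Subgroup

/-- the elements of `⟨s, t⟩ ≅ D8` are `s^i t^j`, and its centre is `{1, s²}` -/
theorem d8_center {G : Type*} [Group G] (s t : G) (ht : t ^ 2 = 1) (hs4 : s ^ 4 = 1)
    (hs2 : s ^ 2 ≠ 1) (hts : t * s * t⁻¹ = s⁻¹) :
    (∀ x ∈ closure ({s, t} : Set G), ∃ i j : ℕ, x = s ^ i * t ^ j) ∧
    (∀ x ∈ closure ({s, t} : Set G), (∀ y ∈ closure ({s, t} : Set G), x * y = y * x) →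
      x = 1 ∨ x = s ^ 2) := by
  have hsinv : s⁻¹ = s ^ 3 := by
    rw [inv_eq_iff_mul_eq_one, ← pow_succ', hs4]
  have htinv : t⁻¹ = t := by
    rw [inv_eq_iff_mul_eq_one, ← pow_two, ht]
  have hts' : t * s = s ^ 3 * t := by
    have := congrArg (fun w => w * t) hts
    simp only [inv_mul_cancel_right] at this
    rw [this, hsinv]
  have hts3 : t * s ^ 3 = s * t := by
    rw [← hsinv]
    calc t * s⁻¹ = (t * s * t⁻¹)⁻¹ * t := by group
      _ = s * t := by rw [hts, inv_inv]
  have htj : ∀ j : ℕ, t ^ j * s = s * t ^ j ∨ t ^ j * s = s ^ 3 * t ^ j := by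
    intro j
    induction j with
    | zero => left; simp
    | succ j ih =>
      rcases ih with h | h
      · right
        calc t ^ (j + 1) * s = t * (t ^ j * s) := by rw [pow_succ']; group
          _ = (t * s) * t ^ j := by rw [h]; group
          _ = s ^ 3 * t ^ (j + 1) := by rw [hts', pow_succ']; group
      · left
        calc t ^ (j + 1) * s = t * (t ^ j * s) := by rw [pow_succ']; group
          _ = (t * s ^ 3) * t ^ j := by rw [h]; group
          _ = s * t ^ (j + 1) := by rw [hts3, pow_succ']; group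
  have hstep : ∀ x : G, (∃ i j : ℕ, x = s ^ i * t ^ j) → ∃ i j : ℕ, x * s = s ^ i * t ^ j := by
    rintro x ⟨i, j, rfl⟩
    rcases htj j with h | h
    · exact ⟨i + 1, j, by rw [mul_assoc, h, pow_succ]; group⟩
    · exact ⟨i + 3, j, by rw [mul_assoc, h, pow_add]; group⟩
  have hstept : ∀ x : G, (∃ i j : ℕ, x = s ^ i * t ^ j) → ∃ i j : ℕ, x * t = s ^ i * t ^ j := by
    rintro x ⟨i, j, rfl⟩
    exact ⟨i, j + 1, by rw [pow_succ]; group⟩
  have h1 : ∀ x ∈ closure ({s, t} : Set G), ∃ i j : ℕ, x = s ^ i * t ^ j := by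
    intro x hx
    induction hx using Subgroup.closure_induction_right with
    | one => exact ⟨0, 0, by simp⟩
    | mul_right x y hx hy ih =>
      rcases hy with rfl | hy
      · exact hstep x ih
      · rw [Set.mem_singleton_iff] at hy
        rw [hy]; exact hstept x ih
    | mul_inv_cancel x y hx hy ih =>
      rcases hy with rfl | hy
      · rw [hsinv, pow_succ, pow_two, ← mul_assoc, ← mul_assoc]
        exact hstep _ (hstep _ (hstep x ih))
      · rw [Set.mem_singleton_iff] at hy
        rw [hy, htinv]; exact hstept x ih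
  refine ⟨h1, ?_⟩
  intro x hx hc
  obtain ⟨i, j, rfl⟩ := h1 x hx
  have hsD : s ∈ closure ({s, t} : Set G) := subset_closure (by simp)
  have htD : t ∈ closure ({s, t} : Set G) := subset_closure (by simp)
  have hos : orderOf s = 2 ^ (1 + 1) := by
    apply orderOf_eq_prime_pow
    · simpa using hs2
    · simpa using hs4
  have htj2 : t ^ j = 1 ∨ t ^ j = t := by
    rw [pow_eq_pow_mod j ht]
    have : j % 2 < 2 := Nat.mod_lt _ (by norm_num)
    interval_cases (j % 2)
    · left; simp
    · right; simp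
  rcases htj2 with hj | hj
  · rw [hj, mul_one] at hc ⊢
    -- x = s^i commutes with t
    have hct := hc t htD
    have hti : t * s ^ i * t⁻¹ = (s ^ i)⁻¹ := by
      have : t * s ^ i * t⁻¹ = (t * s * t⁻¹) ^ i := by rw [conj_pow]
      rw [this, hts, inv_pow]
    have h2 : s ^ (2 * i) = 1 := by
      have e : t * s ^ i * t⁻¹ = s ^ i := by rw [← hct]; group
      rw [e] at hti
      have : s ^ i * s ^ i = 1 := by
        nth_rewrite 2 [hti]; group
      rw [two_mul, pow_add]; exact this
    have hdvd : 4 ∣ 2 * i := by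
      have := orderOf_dvd_of_pow_eq_one h2
      rw [hos] at this
      simpa using this
    have hi2 : 2 ∣ i := by omega
    obtain ⟨k, rfl⟩ := hi2
    rw [pow_mul]
    have h4 : (s ^ 2) ^ 2 = 1 := by rw [← pow_mul]; exact hs4
    rcases Nat.even_or_odd k with ⟨l, hl⟩ | ⟨l, hl⟩
    · left
      rw [hl, ← two_mul, pow_mul, h4, one_pow]
    · right
      rw [hl, pow_succ, pow_mul, h4, one_pow, one_mul]
  · exfalso
    rw [hj] at hc
    have hcs := hc s hsD
    -- s^i t s = s s^i t
    have e : t * s = s * t := by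
      have h3 : s ^ i * (t * s) = s ^ i * (s * t) := by
        calc s ^ i * (t * s) = s ^ i * t * s := by group
          _ = s * (s ^ i * t) := hcs
          _ = s ^ i * (s * t) := by
            rw [← mul_assoc, ← mul_assoc, ← pow_succ', ← pow_succ]
      exact mul_left_cancel h3
    rw [hts'] at e
    have e2 : s ^ 3 = s := mul_right_cancel e
    apply hs2
    have : s ^ 3 * s = s * s := by rw [e2]
    rw [← pow_succ, hs4] at this
    rw [pow_two, ← this]

end Cfsg.Agent.Helper12.S02
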