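import Mathlib
import Cfsg.Agent.Lib.S02.S02Defs
import Cfsg.Agent.Lib.S02.RECW
import Cfsg.Agent.Lib.S02.RECD
import Cfsg.Agent.Lib.S02.RECDC

/-! S4402 design (helper12), piece REC.  See plans/S4402_plan.md. -/

set_option autoImplicit false

namespace Cfsg.Agent.Helper12.S02

open Subgroup

/-- recognition of `D8 ≀ C2 ≅ W3`: order 128, `X₂ = ⟨s, t⟩ ≅ D8`, `b` an involution such that
`X₂` and `b X₂ b⁻¹` commute elementwise and have different centres.  (`wreath_rec` with
`X = ↥(closure {s, t})`, `j = subtype`, `c = b`; commutation of the closures from the four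
generator relations; `X₂ ∩ b X₂ b⁻¹` is central in both, so lies in `{1, s²} ∩ {1, (bsb⁻¹)²} = 1`;
then `RegularWreathProduct.congr` with `d8_rec`.) -/
theorem w3_rec {G : Type*} [Group G] (hG : Nat.card G = 128) (s t b : G)
    (ht : t ^ 2 = 1) (hb : b ^ 2 = 1) (hs4 : s ^ 4 = 1) (hs2 : s ^ 2 ≠ 1)
    (hts : t * s * t⁻¹ = s⁻¹)
    (h1 : s * (b * s * b⁻¹) = (b * s * b⁻¹) * s) (h2 : s * (b * t * b⁻¹) = (b * t * b⁻¹) * s)
    (h3 : t * (b * s * b⁻¹) = (b * s * b⁻¹) * t) (h4 : t * (b * t * b⁻¹) = (b * t * b⁻¹) * t)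
    (hne : s ^ 2 ≠ (b * s * b⁻¹) ^ 2) :
    Nonempty (G ≃* W3) := by
  classical
  haveI : Finite G := Nat.finite_of_card_ne_zero (by rw [hG]; norm_num)
  obtain ⟨⟨eD⟩, hcard8⟩ := d8_rec s t ht hs4 hs2 hts
  obtain ⟨-, hcen⟩ := d8_center s t ht hs4 hs2 hts
  have hsmem : s ∈ closure ({s, t} : Set G) := subset_closure (by simp)
  have htmem : t ∈ closure ({s, t} : Set G) := subset_closure (by simp)
  -- commutation of `⟨s, t⟩` with its conjugate
  have hH : closure ({s, t} : Set G) ≤
      (centralizer ({s, t} : Set G)).comap (MulAut.conj b⁻¹).toMonoidHom := by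
    rw [closure_le]
    intro x hx
    simp only [Set.mem_insert_iff, Set.mem_singleton_iff] at hx
    show (MulAut.conj b⁻¹) x ∈ centralizer ({s, t} : Set G)
    rw [MulAut.conj_apply, inv_inv, mem_centralizer_iff]
    intro y hy
    simp only [Set.mem_insert_iff, Set.mem_singleton_iff] at hy
    rcases hx with rfl | rfl <;> rcases hy with rfl | rfl
    · -- x = s, y = s
      calc y * (b⁻¹ * y * b) = b⁻¹ * ((b * y * b⁻¹) * y) * b := by group
        _ = b⁻¹ * (y * (b * y * b⁻¹)) * b := by rw [h1]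
        _ = b⁻¹ * y * b * y := by group
    · -- x = s, y = t
      calc y * (b⁻¹ * x * b) = b⁻¹ * ((b * y * b⁻¹) * x) * b := by group
        _ = b⁻¹ * (x * (b * y * b⁻¹)) * b := by rw [h2]
        _ = b⁻¹ * x * b * y := by group
    · -- x = t, y = s
      calc y * (b⁻¹ * x * b) = b⁻¹ * ((b * y * b⁻¹) * x) * b := by group
        _ = b⁻¹ * (x * (b * y * b⁻¹)) * b := by rw [h3]
        _ = b⁻¹ * x * b * y := by group
    · -- x = t, y = t
      calc y * (b⁻¹ * y * b) = b⁻¹ * ((b * y * b⁻¹) * y) * b := by group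
        _ = b⁻¹ * (y * (b * y * b⁻¹)) * b := by rw [h4]
        _ = b⁻¹ * y * b * y := by group
  have hcomm : ∀ x ∈ closure ({s, t} : Set G), ∀ y ∈ closure ({s, t} : Set G),
      x * (b * y * b⁻¹) = (b * y * b⁻¹) * x := by
    intro x hx y hy
    have h := hH hx
    have h' : b⁻¹ * x * b ∈ centralizer ({s, t} : Set G) := by
      have : (MulAut.conj b⁻¹) x ∈ centralizer ({s, t} : Set G) := h
      rwa [MulAut.conj_apply, inv_inv] at this
    rw [← centralizer_closure, mem_centralizer_iff] at h'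
    have h5 := h' y hy
    calc x * (b * y * b⁻¹) = b * ((b⁻¹ * x * b) * y) * b⁻¹ := by group
      _ = b * (y * (b⁻¹ * x * b)) * b⁻¹ := by rw [h5]
      _ = (b * y * b⁻¹) * x := by group
  have hbinv : b⁻¹ = b := by
    have : b * b = 1 := by rw [← pow_two]; exact hb
    exact inv_eq_of_mul_eq_one_left this
  -- the intersection is trivial
  have hint : ∀ x y : ↥(closure ({s, t} : Set G)), x.1 = b * y.1 * b⁻¹ → x = 1 := by
    intro x y hxy
    have hxc : ∀ z ∈ closure ({s, t} : Set G), x.1 * z = z * x.1 := by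
      intro z hz
      rw [hxy]
      exact (hcomm z hz y.1 y.2).symm
    have hyc : ∀ z ∈ closure ({s, t} : Set G), y.1 * z = z * y.1 := by
      intro z hz
      have h5 := hcomm x.1 x.2 z hz
      rw [hxy] at h5
      -- (b y b⁻¹)(b z b⁻¹) = (b z b⁻¹)(b y b⁻¹)
      calc y.1 * z = b⁻¹ * ((b * y.1 * b⁻¹) * (b * z * b⁻¹)) * b := by group
        _ = b⁻¹ * ((b * z * b⁻¹) * (b * y.1 * b⁻¹)) * b := by rw [h5]
        _ = z * y.1 := by group
    rcases hcen x.1 x.2 hxc with hx1 | hx2
    · exact Subtype.ext hx1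
    · rcases hcen y.1 y.2 hyc with hy1 | hy2
      · apply Subtype.ext
        rw [hxy, hy1]
        simp
      · exfalso
        apply hne
        rw [← hx2, hxy, hy2, pow_two, pow_two]
        group
  haveI : Nontrivial ↥(closure ({s, t} : Set G)) := by
    refine ⟨⟨⟨s, hsmem⟩, 1, ?_⟩⟩
    intro h
    apply hs2
    have : s = 1 := congrArg Subtype.val h
    rw [this, one_pow]
  obtain ⟨eW⟩ := wreath_rec (G := G) (X := ↥(closure ({s, t} : Set G)))
    (closure ({s, t} : Set G)).subtype (Subgroup.subtype_injective _) b hb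
    (fun x y => hcomm x.1 x.2 y.1 y.2) hint (by rw [hcard8, hG]; norm_num)
  exact ⟨eW.trans (RegularWreathProduct.congr eD (MulEquiv.refl C2))⟩

end Cfsg.Agent.Helper12.S02
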