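import Mathlib
import Cfsg.Agent.Lib.S02.S02Defs
import Cfsg.Agent.Lib.S02.REC
import Cfsg.Agent.Lib.S02.MGEN
import Cfsg.Agent.Lib.S02.MREL
import Cfsg.Agent.Lib.S02.MCARD
import Cfsg.Agent.Lib.S02.MLE

/-! S4402 design (helper12), piece QUOT.  See plans/S4402_plan.md. -/

set_option autoImplicit false

namespace Cfsg.Agent.Helper12.S02

open Subgroup

/-- the quotient `N/Z` (`N = N_S(P)` of order 256, `Z = Z(S) = Zs φ` of order 2) is `≃* W3`:
apply `w3_rec` in `G = ↥N ⧸ (center S).subgroupOf N` to the images of `s`, `t = φ t0`, `b = φ b0`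
(`QRel` gives the relations; `t (b t b⁻¹) = (b t b⁻¹) t` holds in `P`; `|G| = 256 / 2`). -/
theorem quot_equiv {S : Type*} [Group S] [Finite S] {P : Subgroup S} {φ : W3 →* S}
    (hφ : WD P φ) (hZ : Subgroup.center S = Zs φ)
    (hcard : Nat.card ↥(normalizer (P : Set S)) = 256) (s : S)
    (hsN : s ∈ normalizer (P : Set S)) (hq : QRel φ s) :
    Nonempty (↥(normalizer (P : Set S)) ⧸
      (Subgroup.center S).subgroupOf (normalizer (P : Set S)) ≃* W3) := by
  set N : Subgroup S := normalizer (P : Set S) with hN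
  set Zq : Subgroup ↥N := (Subgroup.center S).subgroupOf N with hZq
  have hrel := rel_facts hφ
  have hcards := card_facts hφ
  have hPN : P ≤ N := Subgroup.le_normalizer
  have htP : φ t0 ∈ P := by rw [← hφ.range_eq]; exact ⟨t0, rfl⟩
  have hbP : φ b0 ∈ P := by rw [← hφ.range_eq]; exact ⟨b0, rfl⟩
  let π : ↥N →* (↥N ⧸ Zq) := QuotientGroup.mk' Zq
  have hπ1 : ∀ x : ↥N, π x = 1 ↔ (x : S) ∈ Zs φ := by
    intro x
    show (QuotientGroup.mk x : ↥N ⧸ Zq) = 1 ↔ _
    rw [QuotientGroup.eq_one_iff, hZq, Subgroup.mem_subgroupOf, hZ]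
  let sN : ↥N := ⟨s, hsN⟩
  let tN : ↥N := ⟨φ t0, hPN htP⟩
  let bN : ↥N := ⟨φ b0, hPN hbP⟩
  -- the order of the quotient
  have hG : Nat.card (↥N ⧸ Zq) = 128 := by
    have h1 := Subgroup.card_eq_card_quotient_mul_card_subgroup Zq
    have hcN : Subgroup.center S ≤ N := by
      intro c hc
      rw [hN, Subgroup.mem_normalizer_iff]
      intro h
      have hcc : c * h = h * c := (Subgroup.mem_center_iff.mp hc h).symm
      have : c * h * c⁻¹ = h := by rw [hcc]; group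
      rw [this]
    have h2 : Nat.card ↥Zq = Nat.card ↥(Subgroup.center S) :=
      Nat.card_congr (Subgroup.subgroupOfEquivOfLe hcN).toEquiv
    rw [h2, hZ, hcards.2.2.2.1, hcard] at h1
    omega
  -- the relation `t (b t b⁻¹) = (b t b⁻¹) t` in `S`
  have htt : φ t0 * (φ b0 * φ t0 * (φ b0)⁻¹) = (φ b0 * φ t0 * (φ b0)⁻¹) * φ t0 := by
    have := congrArg φ (show t0 * (b0 * t0 * b0⁻¹) = (b0 * t0 * b0⁻¹) * t0 by decide)
    simpa only [map_mul, map_inv] using this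
  refine w3_rec hG (π sN) (π tN) (π bN) ?_ ?_ ?_ ?_ ?_ ?_ ?_ ?_ ?_ ?_
  · -- t² = 1
    rw [← map_pow, hπ1]
    show (φ t0) ^ 2 ∈ Zs φ
    rw [hrel.2.2.2.2.2.2.2.2.1]; exact one_mem _
  · rw [← map_pow, hπ1]
    show (φ b0) ^ 2 ∈ Zs φ
    rw [hrel.2.2.1]; exact one_mem _
  · rw [← map_pow, hπ1]
    exact hq.r_s4
  · rw [← map_pow, Ne, hπ1]
    exact hq.r_s2
  · -- t s t⁻¹ = s⁻¹
    have h : π (tN * sN * tN⁻¹ * sN) = 1 := by
      rw [hπ1]; exact hq.r_ts
    rw [map_mul, map_mul, map_mul, map_inv] at h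
    exact eq_inv_of_mul_eq_one_left h
  · have h : π (sN * (bN * sN * bN⁻¹) * sN⁻¹ * (bN * sN * bN⁻¹)⁻¹) = 1 := by
      rw [hπ1]; exact hq.r_ss
    simp only [map_mul, map_inv] at h
    have h' := mul_inv_eq_one.mp h
    exact mul_inv_eq_iff_eq_mul.mp h'
  · have h : π (sN * (bN * tN * bN⁻¹) * sN⁻¹ * (bN * tN * bN⁻¹)⁻¹) = 1 := by
      rw [hπ1]; exact hq.r_st
    simp only [map_mul, map_inv] at h
    have h' := mul_inv_eq_one.mp h
    exact mul_inv_eq_iff_eq_mul.mp h'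
  · have h : π (tN * (bN * sN * bN⁻¹) * tN⁻¹ * (bN * sN * bN⁻¹)⁻¹) = 1 := by
      rw [hπ1]; exact hq.r_ts'
    simp only [map_mul, map_inv] at h
    have h' := mul_inv_eq_one.mp h
    exact mul_inv_eq_iff_eq_mul.mp h'
  · have h : tN * (bN * tN * bN⁻¹) = (bN * tN * bN⁻¹) * tN := Subtype.ext htt
    have := congrArg π h
    simpa only [map_mul, map_inv] using this
  · intro heq
    apply hq.r_ne
    have h : π (sN ^ 2 * ((bN * sN * bN⁻¹) ^ 2)⁻¹) = 1 := by
      simp only [map_mul, map_inv, map_pow]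
      rw [heq]
      exact mul_inv_cancel _
    exact (hπ1 _).mp h

end Cfsg.Agent.Helper12.S02
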