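import Mathlib
import Cfsg.Agent.Lib.S02.S02Defs
import Cfsg.Agent.Lib.S02.MGEN
import Cfsg.Agent.Lib.S02.MREL
import Cfsg.Agent.Lib.S02.MPEQ
import Cfsg.Agent.Lib.S02.MLE

/-! S4402 design (helper12), piece REL1.  See plans/S4402_plan.md. -/

set_option autoImplicit false

namespace Cfsg.Agent.Helper12.S02

open Subgroup

/-- `s² = u² a'⁻²` for `s = u a'⁻¹` (`u` commutes with `a'`) -/
theorem s02_rel1_sq {S : Type*} [Group S] {φ : W3 →* S} (u : S) (h : YForm φ u) :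
    (u * (φ a0')⁻¹) ^ 2 = u ^ 2 * ((φ a0')⁻¹) ^ 2 := by
  have hc : Commute u (φ a0') := by
    have := h.ha'
    show u * φ a0' = φ a0' * u
    calc u * φ a0' = (u * φ a0' * u⁻¹) * u := by group
      _ = φ a0' * u := by rw [this]
  exact (hc.inv_right).mul_pow 2

/-- the square of `s`, pulled back to `W3` -/
theorem s02_rel1_sq_form {S : Type*} [Group S] {P : Subgroup S} {φ : W3 →* S}
    (hφ : WD P φ) (u : S) (h : YForm φ u) :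
    (u * (φ a0')⁻¹) ^ 2 = φ (a0 * a0' * a0'⁻¹ ^ 2) ∨
      (u * (φ a0')⁻¹) ^ 2 = φ (a0 * a0' * (z0 * z0') * a0'⁻¹ ^ 2) := by
  have hZ := (gen_facts hφ).2.2.1
  obtain ⟨c, hc, hsq⟩ := h.hsq
  rw [s02_rel1_sq u h, hsq]
  rcases (hZ c).mp hc with rfl | rfl
  · left
    simp only [map_mul, map_inv, map_pow, mul_one]
  · right
    simp only [map_mul, map_inv, map_pow]

theorem rel1 {S : Type*} [Group S] {P : Subgroup S} {φ : W3 →* S}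
    (hφ : WD P φ) (u : S) (h : YForm φ u) :
    (u * (φ a0')⁻¹) ^ 4 ∈ Zs φ ∧ (u * (φ a0')⁻¹) ^ 2 ∉ Zs φ ∧
      φ t0 * (u * (φ a0')⁻¹) * (φ t0)⁻¹ * (u * (φ a0')⁻¹) ∈ Zs φ ∧
      (∃ c ∈ Zs φ, (u * (φ a0')⁻¹) ^ 2 = φ a0 * (φ a0')⁻¹ * c) := by
  have hZ := (gen_facts hφ).2.2.1
  refine ⟨?_, ?_, ?_, ?_⟩
  · have e4 : (u * (φ a0')⁻¹) ^ 4 = ((u * (φ a0')⁻¹) ^ 2) ^ 2 := by
      rw [← pow_mul]
    rw [e4]
    rcases s02_rel1_sq_form hφ u h with e | e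
    · rw [e, ← map_pow]
      exact Subgroup.mem_map_of_mem φ (by decide)
    · rw [e, ← map_pow]
      exact Subgroup.mem_map_of_mem φ (by decide)
  · rcases s02_rel1_sq_form hφ u h with e | e
    · rw [e]
      exact s02_mgen_not_mem hφ.inj Z0 _ (by decide)
    · rw [e]
      exact s02_mgen_not_mem hφ.inj Z0 _ (by decide)
  · -- `t s t⁻¹ s = t · (u t u⁻¹)⁻¹ · (u (t a' t⁻¹) u⁻¹)⁻¹ · u² · a'⁻¹`
    have key : φ t0 * (u * (φ a0')⁻¹) * (φ t0)⁻¹ * (u * (φ a0')⁻¹) =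
        φ t0 * (u * φ t0 * u⁻¹)⁻¹ * (u * (φ t0 * φ a0' * (φ t0)⁻¹) * u⁻¹)⁻¹ * u ^ 2 *
          (φ a0')⁻¹ := by group
    have hta : φ t0 * φ a0' * (φ t0)⁻¹ = φ a0 := (rel_facts hφ).2.2.2.2.2.2.2.2.2.2.2.1
    rw [key, hta, h.ha]
    obtain ⟨c, hc, ht⟩ := h.ht
    obtain ⟨d, hd, hsq⟩ := h.hsq
    rw [ht, hsq]
    rcases (hZ c).mp hc with rfl | rfl <;> rcases (hZ d).mp hd with rfl | rfl
    · have e : φ t0 * (φ t0 * 1)⁻¹ * (φ a0)⁻¹ * (φ a0 * φ a0' * 1) * (φ a0')⁻¹ =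
          φ (t0 * (t0 * 1)⁻¹ * a0⁻¹ * (a0 * a0' * 1) * a0'⁻¹) := by
        simp only [map_mul, map_inv, map_one]
      rw [e]
      exact Subgroup.mem_map_of_mem φ (by decide)
    · have e : φ t0 * (φ t0 * 1)⁻¹ * (φ a0)⁻¹ * (φ a0 * φ a0' * (φ z0 * φ z0')) * (φ a0')⁻¹ =
          φ (t0 * (t0 * 1)⁻¹ * a0⁻¹ * (a0 * a0' * (z0 * z0')) * a0'⁻¹) := by
        simp only [map_mul, map_inv, map_one]
      rw [e]
      exact Subgroup.mem_map_of_mem φ (by decide)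
    · have e : φ t0 * (φ t0 * (φ z0 * φ z0'))⁻¹ * (φ a0)⁻¹ * (φ a0 * φ a0' * 1) * (φ a0')⁻¹ =
          φ (t0 * (t0 * (z0 * z0'))⁻¹ * a0⁻¹ * (a0 * a0' * 1) * a0'⁻¹) := by
        simp only [map_mul, map_inv, map_one]
      rw [e]
      exact Subgroup.mem_map_of_mem φ (by decide)
    · have e : φ t0 * (φ t0 * (φ z0 * φ z0'))⁻¹ * (φ a0)⁻¹ *
          (φ a0 * φ a0' * (φ z0 * φ z0')) * (φ a0')⁻¹ =
          φ (t0 * (t0 * (z0 * z0'))⁻¹ * a0⁻¹ * (a0 * a0' * (z0 * z0')) * a0'⁻¹) := by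
        simp only [map_mul, map_inv]
      rw [e]
      exact Subgroup.mem_map_of_mem φ (by decide)
  · rcases s02_rel1_sq_form hφ u h with e | e
    · refine ⟨φ ((a0 * a0'⁻¹)⁻¹ * (a0 * a0' * a0'⁻¹ ^ 2)), Subgroup.mem_map_of_mem φ (by decide),
        ?_⟩
      rw [e, ← map_inv, ← map_mul, ← map_mul]
      congr 1
      group
    · refine ⟨φ ((a0 * a0'⁻¹)⁻¹ * (a0 * a0' * (z0 * z0') * a0'⁻¹ ^ 2)),
        Subgroup.mem_map_of_mem φ (by decide), ?_⟩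
      rw [e, ← map_inv, ← map_mul, ← map_mul]
      congr 1
      group

end Cfsg.Agent.Helper12.S02
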