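import Mathlib
import Cfsg.Agent.Lib.S02.S02Defs
import Cfsg.Agent.Lib.S02.MGEN
import Cfsg.Agent.Lib.S02.MREL
import Cfsg.Agent.Lib.S02.MPEQ
import Cfsg.Agent.Lib.S02.MLE
import Cfsg.Agent.Lib.S02.MWCEN

/-! S4402 design (helper12), piece REL2.  See plans/S4402_plan.md. -/

set_option autoImplicit false

namespace Cfsg.Agent.Helper12.S02

open Subgroup

/-- abstract form: if `g` commutes with `s` then `s` commutes with `g s` and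
`s² ((g s)²)⁻¹ = (g²)⁻¹` -/
theorem s02_rel2_abs {S : Type*} [Group S] (g s : S) (hc : Commute g s) :
    s * (g * s) = g * s * s ∧ s ^ 2 * ((g * s) ^ 2)⁻¹ = (g ^ 2)⁻¹ := by
  constructor
  · rw [← mul_assoc, ← hc.eq]
  · rw [hc.mul_pow 2]
    group

/-- `b s b⁻¹ = φ x · s` with `x = a0⁻¹` or `x = (a0'²)⁻¹ a0⁻¹` -/
theorem s02_rel2_form {S : Type*} [Group S] {P : Subgroup S} {φ : W3 →* S}
    (hφ : WD P φ) (u : S) (h : YForm φ u) :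
    φ b0 * (u * (φ a0')⁻¹) * (φ b0)⁻¹ = φ (a0⁻¹) * (u * (φ a0')⁻¹) ∨
      φ b0 * (u * (φ a0')⁻¹) * (φ b0)⁻¹ = φ ((a0' ^ 2)⁻¹ * a0⁻¹) * (u * (φ a0')⁻¹) := by
  have key : φ b0 * (u * (φ a0')⁻¹) * (φ b0)⁻¹ =
      φ b0 * (u * φ b0 * u⁻¹)⁻¹ * u * (φ b0 * (φ a0')⁻¹ * (φ b0)⁻¹) := by group
  have e2 : φ b0 * (φ a0')⁻¹ * (φ b0)⁻¹ = (φ a0')⁻¹ := by
    have := congrArg φ (show b0 * a0'⁻¹ * b0⁻¹ = a0'⁻¹ by decide)
    simpa only [map_mul, map_inv] using this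
  rw [key, e2]
  rcases h.hb with ⟨hb, -⟩ | ⟨hb, -⟩
  · left
    rw [hb]
    have e1 : φ b0 * (φ a0 * φ b0)⁻¹ = φ (a0⁻¹) := by
      have := congrArg φ (show b0 * (a0 * b0)⁻¹ = a0⁻¹ by decide)
      simpa only [map_mul, map_inv] using this
    rw [e1, mul_assoc]
  · right
    rw [hb]
    have e1 : φ b0 * (φ a0 * φ b0 * φ z0')⁻¹ = φ ((a0' ^ 2)⁻¹ * a0⁻¹) := by
      have := congrArg φ (show b0 * (a0 * b0 * z0')⁻¹ = (a0' ^ 2)⁻¹ * a0⁻¹ by decide)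
      simpa only [map_mul, map_inv] using this
    rw [e1, mul_assoc]

/-- `a` and `a'` commute with `s = u a'⁻¹` -/
theorem s02_rel2_comm {S : Type*} [Group S] {P : Subgroup S} {φ : W3 →* S}
    (hφ : WD P φ) (u : S) (h : YForm φ u) :
    Commute (φ a0) (u * (φ a0')⁻¹) ∧ Commute (φ a0') (u * (φ a0')⁻¹) := by
  have hcu : Commute u (φ a0) := by
    show u * φ a0 = φ a0 * u
    calc u * φ a0 = (u * φ a0 * u⁻¹) * u := by group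
      _ = φ a0 * u := by rw [h.ha]
  have hcu' : Commute u (φ a0') := by
    show u * φ a0' = φ a0' * u
    calc u * φ a0' = (u * φ a0' * u⁻¹) * u := by group
      _ = φ a0' * u := by rw [h.ha']
  have haa' : Commute (φ a0) (φ a0') := (rel_facts hφ).2.2.2.2.2.2.2.2.2.2.2.2.2.1
  exact ⟨hcu.symm.mul_right haa'.inv_right,
    hcu'.symm.mul_right (Commute.refl _).inv_right⟩

theorem rel2 {S : Type*} [Group S] {P : Subgroup S} {φ : W3 →* S}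
    (hφ : WD P φ) (u : S) (h : YForm φ u) :
    (u * (φ a0')⁻¹) * (φ b0 * (u * (φ a0')⁻¹) * (φ b0)⁻¹) =
        (φ b0 * (u * (φ a0')⁻¹) * (φ b0)⁻¹) * (u * (φ a0')⁻¹) ∧
      (u * (φ a0')⁻¹) ^ 2 * ((φ b0 * (u * (φ a0')⁻¹) * (φ b0)⁻¹) ^ 2)⁻¹ ∉ Zs φ ∧
      (∃ w ∈ Ws φ, φ b0 * (u * (φ a0')⁻¹) * (φ b0)⁻¹ = w * (φ a0)⁻¹ * (u * (φ a0')⁻¹)) := by
  obtain ⟨hA, hA'⟩ := s02_rel2_comm hφ u h
  rcases s02_rel2_form hφ u h with e | e
  · have hc : Commute (φ (a0⁻¹)) (u * (φ a0')⁻¹) := by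
      rw [map_inv]
      exact hA.inv_left
    obtain ⟨h1, h2⟩ := s02_rel2_abs _ _ hc
    rw [e]
    refine ⟨h1, ?_, ⟨φ 1, Subgroup.mem_map_of_mem φ (by decide), ?_⟩⟩
    · rw [h2, ← map_pow, ← map_inv]
      exact s02_mgen_not_mem hφ.inj Z0 _ (by decide)
    · rw [map_one, one_mul, map_inv]
  · have hc : Commute (φ ((a0' ^ 2)⁻¹ * a0⁻¹)) (u * (φ a0')⁻¹) := by
      rw [map_mul, map_inv, map_inv, map_pow]
      exact ((hA'.pow_left 2).inv_left).mul_left hA.inv_left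
    obtain ⟨h1, h2⟩ := s02_rel2_abs _ _ hc
    rw [e]
    refine ⟨h1, ?_, ⟨φ ((a0' ^ 2)⁻¹), Subgroup.mem_map_of_mem φ (by decide), ?_⟩⟩
    · rw [h2, ← map_pow, ← map_inv]
      exact s02_mgen_not_mem hφ.inj Z0 _ (by decide)
    · rw [map_mul, map_inv φ a0]

end Cfsg.Agent.Helper12.S02
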