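import Mathlib
import Cfsg.Agent.Lib.S02.S02Defs
import Cfsg.Agent.Lib.S02.REL1
import Cfsg.Agent.Lib.S02.REL2
import Cfsg.Agent.Lib.S02.MGEN
import Cfsg.Agent.Lib.S02.MREL
import Cfsg.Agent.Lib.S02.MPEQ
import Cfsg.Agent.Lib.S02.MLE
import Cfsg.Agent.Lib.S02.MWCEN

/-! S4402 design (helper12), piece REL3.  See plans/S4402_plan.md. -/

set_option autoImplicit false

namespace Cfsg.Agent.Helper12.S02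

open Subgroup

/-- `t s' t⁻¹ ≡ s'` mod `Z` where `s' = b s b⁻¹ = z'^l a⁻¹ s`: `t s' t⁻¹ = z^l a'⁻¹ (t s t⁻¹)` and
`t s t⁻¹ = c s⁻¹`, `s⁻¹ = s⁻² s = a⁻¹ a' c' s`; so `t s' t⁻¹ = z^l c c' a⁻¹ s = (z z')^l c c' s'`. -/
theorem rel3 {S : Type*} [Group S] {P : Subgroup S} {φ : W3 →* S}
    (hφ : WD P φ) (u : S) (h : YForm φ u) :
    φ t0 * (φ b0 * (u * (φ a0')⁻¹) * (φ b0)⁻¹) * (φ t0)⁻¹ *
      (φ b0 * (u * (φ a0')⁻¹) * (φ b0)⁻¹)⁻¹ ∈ Zs φ := by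
  have hZ := (gen_facts hφ).2.2.1
  -- `X = t b · u (a'⁻¹ b⁻¹ t⁻¹ b a') u⁻¹ · b⁻¹`
  have key : φ t0 * (φ b0 * (u * (φ a0')⁻¹) * (φ b0)⁻¹) * (φ t0)⁻¹ *
      (φ b0 * (u * (φ a0')⁻¹) * (φ b0)⁻¹)⁻¹ =
      φ t0 * φ b0 * ((u * φ a0' * u⁻¹)⁻¹ * (u * φ b0 * u⁻¹)⁻¹ * (u * φ t0 * u⁻¹)⁻¹ *
        (u * φ b0 * u⁻¹) * (u * φ a0' * u⁻¹)) * (φ b0)⁻¹ := by group
  rw [key, h.ha']
  obtain ⟨c, hc, ht⟩ := h.ht
  rw [ht]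
  rcases (hZ c).mp hc with rfl | rfl
  · rcases h.hb with ⟨hb, -⟩ | ⟨hb, -⟩
    · rw [hb]
      have e : φ t0 * φ b0 * ((φ a0')⁻¹ * (φ a0 * φ b0)⁻¹ * (φ t0 * 1)⁻¹ *
          (φ a0 * φ b0) * φ a0') * (φ b0)⁻¹ =
          φ (t0 * b0 * (a0'⁻¹ * (a0 * b0)⁻¹ * (t0 * 1)⁻¹ * (a0 * b0) * a0') * b0⁻¹) := by
        simp only [map_mul, map_inv, map_one]
      rw [e]
      exact Subgroup.mem_map_of_mem φ (by decide)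
    · rw [hb]
      have e : φ t0 * φ b0 * ((φ a0')⁻¹ * (φ a0 * φ b0 * φ z0')⁻¹ * (φ t0 * 1)⁻¹ *
          (φ a0 * φ b0 * φ z0') * φ a0') * (φ b0)⁻¹ =
          φ (t0 * b0 * (a0'⁻¹ * (a0 * b0 * z0')⁻¹ * (t0 * 1)⁻¹ * (a0 * b0 * z0') * a0') *
            b0⁻¹) := by
        simp only [map_mul, map_inv, map_one]
      rw [e]
      exact Subgroup.mem_map_of_mem φ (by decide)
  · rcases h.hb with ⟨hb, -⟩ | ⟨hb, -⟩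
    · rw [hb]
      have e : φ t0 * φ b0 * ((φ a0')⁻¹ * (φ a0 * φ b0)⁻¹ * (φ t0 * (φ z0 * φ z0'))⁻¹ *
          (φ a0 * φ b0) * φ a0') * (φ b0)⁻¹ =
          φ (t0 * b0 * (a0'⁻¹ * (a0 * b0)⁻¹ * (t0 * (z0 * z0'))⁻¹ * (a0 * b0) * a0') *
            b0⁻¹) := by
        simp only [map_mul, map_inv]
      rw [e]
      exact Subgroup.mem_map_of_mem φ (by decide)
    · rw [hb]
      have e : φ t0 * φ b0 * ((φ a0')⁻¹ * (φ a0 * φ b0 * φ z0')⁻¹ *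
          (φ t0 * (φ z0 * φ z0'))⁻¹ * (φ a0 * φ b0 * φ z0') * φ a0') * (φ b0)⁻¹ =
          φ (t0 * b0 * (a0'⁻¹ * (a0 * b0 * z0')⁻¹ * (t0 * (z0 * z0'))⁻¹ * (a0 * b0 * z0') *
            a0') * b0⁻¹) := by
        simp only [map_mul, map_inv]
      rw [e]
      exact Subgroup.mem_map_of_mem φ (by decide)

end Cfsg.Agent.Helper12.S02
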