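import Mathlib
import Cfsg.Agent.Lib.S02.S02Defs
import Cfsg.Agent.Lib.S02.REL1
import Cfsg.Agent.Lib.S02.MGEN
import Cfsg.Agent.Lib.S02.MREL
import Cfsg.Agent.Lib.S02.MPEQ
import Cfsg.Agent.Lib.S02.MLE
import Cfsg.Agent.Lib.S02.MWCEN

/-! S4402 design (helper12), piece REL4.  See plans/S4402_plan.md. -/

set_option autoImplicit false

namespace Cfsg.Agent.Helper12.S02

open Subgroup

/-- `s` commutes with `t' = b t b⁻¹ = b b' t` mod `Z`: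
`(b b') u (b b')⁻¹ = (z z')^l a'⁻¹ a⁻¹ u`, so `(b b') s (b b')⁻¹ = (z z')^l a⁻¹ u ≡ s⁻¹`, and
`t s t⁻¹ ≡ s⁻¹`; hence `t' s t'⁻¹ ≡ s`. -/
theorem rel4 {S : Type*} [Group S] {P : Subgroup S} {φ : W3 →* S}
    (hφ : WD P φ) (u : S) (h : YForm φ u) :
    (u * (φ a0')⁻¹) * (φ b0 * φ t0 * (φ b0)⁻¹) * (u * (φ a0')⁻¹)⁻¹ *
      (φ b0 * φ t0 * (φ b0)⁻¹)⁻¹ ∈ Zs φ := by
  have hZ := (gen_facts hφ).2.2.1
  have key : (u * (φ a0')⁻¹) * (φ b0 * φ t0 * (φ b0)⁻¹) * (u * (φ a0')⁻¹)⁻¹ *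
      (φ b0 * φ t0 * (φ b0)⁻¹)⁻¹ =
      (u * φ a0' * u⁻¹)⁻¹ * (u * φ b0 * u⁻¹) * (u * φ t0 * u⁻¹) * (u * φ b0 * u⁻¹)⁻¹ *
        (u * φ a0' * u⁻¹) * (φ b0 * φ t0 * (φ b0)⁻¹)⁻¹ := by group
  rw [key, h.ha']
  obtain ⟨c, hc, ht⟩ := h.ht
  rw [ht]
  rcases (hZ c).mp hc with rfl | rfl
  · rcases h.hb with ⟨hb, -⟩ | ⟨hb, -⟩
    · rw [hb]
      have e : (φ a0')⁻¹ * (φ a0 * φ b0) * (φ t0 * 1) * (φ a0 * φ b0)⁻¹ * φ a0' *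
          (φ b0 * φ t0 * (φ b0)⁻¹)⁻¹ =
          φ (a0'⁻¹ * (a0 * b0) * (t0 * 1) * (a0 * b0)⁻¹ * a0' * (b0 * t0 * b0⁻¹)⁻¹) := by
        simp only [map_mul, map_inv, map_one]
      rw [e]
      exact Subgroup.mem_map_of_mem φ (by decide)
    · rw [hb]
      have e : (φ a0')⁻¹ * (φ a0 * φ b0 * φ z0') * (φ t0 * 1) * (φ a0 * φ b0 * φ z0')⁻¹ * φ a0' *
          (φ b0 * φ t0 * (φ b0)⁻¹)⁻¹ =
          φ (a0'⁻¹ * (a0 * b0 * z0') * (t0 * 1) * (a0 * b0 * z0')⁻¹ * a0' *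
            (b0 * t0 * b0⁻¹)⁻¹) := by
        simp only [map_mul, map_inv, map_one]
      rw [e]
      exact Subgroup.mem_map_of_mem φ (by decide)
  · rcases h.hb with ⟨hb, -⟩ | ⟨hb, -⟩
    · rw [hb]
      have e : (φ a0')⁻¹ * (φ a0 * φ b0) * (φ t0 * (φ z0 * φ z0')) * (φ a0 * φ b0)⁻¹ * φ a0' *
          (φ b0 * φ t0 * (φ b0)⁻¹)⁻¹ =
          φ (a0'⁻¹ * (a0 * b0) * (t0 * (z0 * z0')) * (a0 * b0)⁻¹ * a0' *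
            (b0 * t0 * b0⁻¹)⁻¹) := by
        simp only [map_mul, map_inv]
      rw [e]
      exact Subgroup.mem_map_of_mem φ (by decide)
    · rw [hb]
      have e : (φ a0')⁻¹ * (φ a0 * φ b0 * φ z0') * (φ t0 * (φ z0 * φ z0')) *
          (φ a0 * φ b0 * φ z0')⁻¹ * φ a0' * (φ b0 * φ t0 * (φ b0)⁻¹)⁻¹ =
          φ (a0'⁻¹ * (a0 * b0 * z0') * (t0 * (z0 * z0')) * (a0 * b0 * z0')⁻¹ * a0' *
            (b0 * t0 * b0⁻¹)⁻¹) := by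
        simp only [map_mul, map_inv]
      rw [e]
      exact Subgroup.mem_map_of_mem φ (by decide)

end Cfsg.Agent.Helper12.S02
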