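import Mathlib
import Cfsg.Agent.Lib.S02.S02Defs
import Cfsg.Agent.Lib.S02.REL1
import Cfsg.Agent.Lib.S02.REL2
import Cfsg.Agent.Lib.S02.REL3
import Cfsg.Agent.Lib.S02.REL4

/-! S4402 design (helper12), piece RELMAIN.  See plans/S4402_plan.md. -/

set_option autoImplicit false

namespace Cfsg.Agent.Helper12.S02

open Subgroup

/-- assembly of REL1–REL4 -/
theorem qrel {S : Type*} [Group S] {P : Subgroup S} {φ : W3 →* S}
    (hφ : WD P φ) (u : S) (h : YForm φ u) : QRel φ (u * (φ a0')⁻¹) := by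
  obtain ⟨h1, h2, h3, -⟩ := rel1 hφ u h
  obtain ⟨h4, h5, -⟩ := rel2 hφ u h
  have h6 := rel3 hφ u h
  have h7 := rel4 hφ u h
  refine ⟨h1, h2, h3, ?_, h7, h6, h5⟩
  have e : (u * (φ a0')⁻¹) * (φ b0 * (u * (φ a0')⁻¹) * (φ b0)⁻¹) * (u * (φ a0')⁻¹)⁻¹ *
      (φ b0 * (u * (φ a0')⁻¹) * (φ b0)⁻¹)⁻¹ = 1 := by
    rw [h4]; group
  rw [e]
  exact Subgroup.one_mem _

end Cfsg.Agent.Helper12.S02
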