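import Mathlib
import Cfsg.Agent.Lib.S02.S02Defs
import Cfsg.Agent.Lib.S02.MGEN
import Cfsg.Agent.Lib.S02.MREL
import Cfsg.Agent.Lib.S02.MPEQ
import Cfsg.Agent.Lib.S02.MLE

/-! S4402 design (helper12), piece YEPS.  See plans/S4402_plan.md. -/

set_option autoImplicit false

namespace Cfsg.Agent.Helper12.S02

open Subgroup

set_option maxRecDepth 1000000 in
theorem s02_yeps_Z0_sq : ∀ g : W3, g ∈ Z0 → g * g = 1 := by decide +kernel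

theorem s02_yeps_model : t0 * t0 = 1 ∧ t0 * (a0 * a0'⁻¹) * t0⁻¹ ≠ a0 * a0'⁻¹ ∧
    t0 * (a0⁻¹ * a0') * t0⁻¹ ≠ a0⁻¹ * a0' ∧ a0⁻¹ * a0'⁻¹ = a0 * a0' * (z0 * z0') ∧
    z0 * z0' ∈ Z0 := by decide

/-- `t u t⁻¹ = c u` (from `u t u⁻¹ = t c`, `c ∈ Z` central in `P`, fixed by `u`), so
`t u² t⁻¹ = (c u)² = u²`; for `u² = a^ε a'^ε'` this gives `a^ε a'^ε' = a^ε' a'^ε`, so `ε = ε'`
(else `z = z'`); and `a⁻¹ a'⁻¹ = a a' z z'`. -/
theorem sq_eps {S : Type*} [Group S] {P : Subgroup S} {φ : W3 →* S}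
    (hφ : WD P φ) (u : S) (ht : ∃ c ∈ Zs φ, u * φ t0 * u⁻¹ = φ t0 * c)
    (hW : ∀ w ∈ Ws φ, u * w * u⁻¹ = w)
    (hsq : u ^ 2 = φ a0 * φ a0' ∨ u ^ 2 = φ a0 * (φ a0')⁻¹ ∨ u ^ 2 = (φ a0)⁻¹ * φ a0' ∨
        u ^ 2 = (φ a0)⁻¹ * (φ a0')⁻¹) :
    ∃ c ∈ Zs φ, u ^ 2 = φ a0 * φ a0' * c := by
  obtain ⟨hm1, hm2, hm3, hm4, hm5⟩ := s02_yeps_model
  obtain ⟨c, hc, hct⟩ := ht
  obtain ⟨c0, hc0, rfl⟩ := hc
  have hcc : φ c0 * φ c0 = 1 := by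
    rw [← map_mul, s02_yeps_Z0_sq c0 hc0, map_one]
  have hcW : φ c0 ∈ Ws φ := Subgroup.mem_map_of_mem φ (s02_mle_ZW c0 hc0)
  have huc : u * φ c0 = φ c0 * u := by
    have h := hW _ hcW
    calc u * φ c0 = u * φ c0 * u⁻¹ * u := by group
      _ = φ c0 * u := by rw [h]
  have htt : φ t0 * φ t0 = 1 := by rw [← map_mul, hm1, map_one]
  have htinv : (φ t0)⁻¹ = φ t0 := inv_eq_of_mul_eq_one_right htt
  -- `t u t⁻¹ = c u`
  have h1 : φ t0 * u * (φ t0)⁻¹ = φ c0 * u := by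
    have h2 : u * φ t0 = φ t0 * φ c0 * u := by
      calc u * φ t0 = u * φ t0 * u⁻¹ * u := by group
        _ = φ t0 * φ c0 * u := by rw [hct]
    calc φ t0 * u * (φ t0)⁻¹ = φ t0 * (u * φ t0) := by rw [htinv, mul_assoc]
      _ = φ t0 * (φ t0 * φ c0 * u) := by rw [h2]
      _ = (φ t0 * φ t0) * φ c0 * u := by group
      _ = φ c0 * u := by rw [htt, one_mul]
  -- `t u² t⁻¹ = u²`
  have h3 : φ t0 * u ^ 2 * (φ t0)⁻¹ = u ^ 2 := by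
    calc φ t0 * u ^ 2 * (φ t0)⁻¹ = (φ t0 * u * (φ t0)⁻¹) * (φ t0 * u * (φ t0)⁻¹) := by
          rw [pow_two]; group
      _ = φ c0 * u * (φ c0 * u) := by rw [h1]
      _ = φ c0 * (u * φ c0) * u := by group
      _ = φ c0 * (φ c0 * u) * u := by rw [huc]
      _ = (φ c0 * φ c0) * (u * u) := by group
      _ = u ^ 2 := by rw [hcc, one_mul, pow_two]
  rcases hsq with h | h | h | h
  · exact ⟨1, Subgroup.one_mem _, by rw [h, mul_one]⟩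
  · exfalso
    apply hm2
    apply hφ.inj
    rw [h] at h3
    simpa only [map_mul, map_inv] using h3
  · exfalso
    apply hm3
    apply hφ.inj
    rw [h] at h3
    simpa only [map_mul, map_inv] using h3
  · refine ⟨φ (z0 * z0'), Subgroup.mem_map_of_mem φ hm5, ?_⟩
    rw [h]
    have := congrArg φ hm4
    simpa only [map_mul, map_inv] using this

end Cfsg.Agent.Helper12.S02
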