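import Mathlib
import Cfsg.Agent.Lib.S02.S02Defs
import Cfsg.Agent.Lib.S02.MPEQ
import Cfsg.Agent.Lib.S02.MGEN
import Cfsg.Agent.Lib.S02.MREL
import Cfsg.Agent.Lib.S02.MWCEN

/-! S4402 design (helper12), piece YSQ1.  See plans/S4402_plan.md.  Proved by helper2. -/

set_option autoImplicit false

namespace Cfsg.Agent.Helper12.S02

open Subgroup

set_option maxRecDepth 100000 in
theorem s02_ysq1_W3 : ∀ x : W3, x ∈ B0 → ∀ j : Fin 2,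
    x * (t0 * a0 * t0⁻¹) * x⁻¹ ≠ a0 * z0' ^ (j : ℕ) * z0' ^ (j : ℕ) := by decide +kernel

/-- `u² ∈ B`: otherwise `u² = x t` with `x ∈ B` (`p_eq`), and `u² a u⁻² = x a' x⁻¹`; but
`u² a u⁻² = u (a z'^j) u⁻¹ = a`, and no `B`-conjugate of `a'` equals `a`
(`∀ x : W3, x ∈ B0 → x * a0' * x⁻¹ ≠ a0` by `decide +kernel`). -/
theorem sq_mem_B {S : Type*} [Group S] {P : Subgroup S} {φ : W3 →* S}
    (hφ : WD P φ) (u : S) (hu2 : u ^ 2 ∈ P) (h : SwapForm2 φ u) : u ^ 2 ∈ Bs φ := by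
  obtain ⟨hp1, -, -, -⟩ := p_eq hφ
  rcases hp1 (u ^ 2) hu2 with hB | ⟨x, hxB, hx⟩
  · exact hB
  · exfalso
    have hz'W : φ z0' ∈ Ws φ := ⟨z0', (by decide : z0' ∈ W0), rfl⟩
    have huz' : u * φ z0' * u⁻¹ = φ z0' := h.hW _ hz'W
    obtain ⟨j, hj⟩ : ∃ j : Fin 2, u * φ a0 * u⁻¹ = φ (a0 * z0' ^ (j : ℕ)) := by
      rcases h.ha with h1 | h1
      · exact ⟨0, by simpa using h1⟩
      · exact ⟨1, by simpa [map_mul] using h1⟩
    have key : u ^ 2 * φ a0 * (u ^ 2)⁻¹ = φ (a0 * z0' ^ (j : ℕ) * z0' ^ (j : ℕ)) := by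
      have e : u ^ 2 * φ a0 * (u ^ 2)⁻¹ = u * (u * φ a0 * u⁻¹) * u⁻¹ := by rw [pow_two]; group
      rw [e, hj]
      have e2 : u * φ (a0 * z0' ^ (j : ℕ)) * u⁻¹ =
          (u * φ a0 * u⁻¹) * (u * φ z0' * u⁻¹) ^ (j : ℕ) := by
        rw [map_mul, map_pow, conj_pow]; group
      rw [e2, hj, huz']
      simp only [map_mul, map_pow]
    obtain ⟨x0, hx0, rfl⟩ := hxB
    rw [hx] at key
    have key2 : φ (x0 * (t0 * a0 * t0⁻¹) * x0⁻¹) = φ (a0 * z0' ^ (j : ℕ) * z0' ^ (j : ℕ)) := by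
      rw [← key]
      simp only [map_mul, map_inv]
      group
    exact s02_ysq1_W3 x0 hx0 j (hφ.inj key2)

end Cfsg.Agent.Helper12.S02
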