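import Mathlib
import Cfsg.Agent.Lib.S02.S02Defs
import Cfsg.Agent.Lib.S02.MGEN
import Cfsg.Agent.Lib.S02.MREL
import Cfsg.Agent.Lib.S02.MWCEN

/-! S4402 design (helper12), piece YSQ2.  See plans/S4402_plan.md.  Proved by helper2. -/

set_option autoImplicit false

namespace Cfsg.Agent.Helper12.S02

open Subgroup

set_option maxRecDepth 1000000 in
theorem s02_ysq2_W3a : ∀ x : W3, x ∈ B0 → ∀ j l : Fin 2,
    x * b0 * x⁻¹ = (a0 * z0' ^ (j : ℕ)) * (a0 * b0 * z0' ^ (l : ℕ)) * z0' ^ (l : ℕ) → j = 0 := by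
  decide +kernel

set_option maxRecDepth 1000000 in
theorem s02_ysq2_W3b : ∀ x : W3, x ∈ B0 → ∀ j l : Fin 2,
    x * b0' * x⁻¹ = (a0' * z0 ^ (j : ℕ)) * (a0' * b0' * z0 ^ (l : ℕ)) * z0 ^ (l : ℕ) → j = 0 := by
  decide +kernel

set_option maxRecDepth 1000000 in
theorem s02_ysq2_W3c : ∀ x : W3, x ∈ B0 → ∀ l l' : Fin 2,
    x * a0 * x⁻¹ = a0 → x * a0' * x⁻¹ = a0' →
    x * b0 * x⁻¹ = (a0 * z0' ^ ((0 : Fin 2) : ℕ)) * (a0 * b0 * z0' ^ (l : ℕ)) * z0' ^ (l : ℕ) →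
    x * b0' * x⁻¹ = (a0' * z0 ^ ((0 : Fin 2) : ℕ)) * (a0' * b0' * z0 ^ (l' : ℕ)) * z0 ^ (l' : ℕ) →
    x = a0 * a0' ∨ x = a0 * a0'⁻¹ ∨ x = a0⁻¹ * a0' ∨ x = a0⁻¹ * a0'⁻¹ := by
  decide +kernel

/-- conjugating twice -/
theorem s02_ysq2_sq {S : Type*} [Group S] (u g : S) :
    u ^ 2 * g * (u ^ 2)⁻¹ = u * (u * g * u⁻¹) * u⁻¹ := by
  rw [pow_two]; group

/-- `x = u² ∈ B` acts on `B` as an inner automorphism: `x a x⁻¹ = u² a u⁻² = a` and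
`x b x⁻¹ = u (ab z'^l) u⁻¹ = z b z'^j` where `u a u⁻¹ = a z'^j`; but `B`-conjugates of `b` are `b, zb`,
so `j = 0`; likewise primed.  Then `x` centralises `a, a'` and `x b x⁻¹ = zb`, `x b' x⁻¹ = z'b'`
force `x = a^{±1} a'^{±1}` (`decide` in `W3`). -/
theorem sq_form {S : Type*} [Group S] {P : Subgroup S} {φ : W3 →* S}
    (hφ : WD P φ) (u : S) (hu2 : u ^ 2 ∈ Bs φ) (h : SwapForm2 φ u) :
    u * φ a0 * u⁻¹ = φ a0 ∧ u * φ a0' * u⁻¹ = φ a0' ∧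
      (u ^ 2 = φ a0 * φ a0' ∨ u ^ 2 = φ a0 * (φ a0')⁻¹ ∨ u ^ 2 = (φ a0)⁻¹ * φ a0' ∨
        u ^ 2 = (φ a0)⁻¹ * (φ a0')⁻¹) := by
  have hzW : φ z0 ∈ Ws φ := ⟨z0, (by decide : z0 ∈ W0), rfl⟩
  have hz'W : φ z0' ∈ Ws φ := ⟨z0', (by decide : z0' ∈ W0), rfl⟩
  have huz : u * φ z0 * u⁻¹ = φ z0 := h.hW _ hzW
  have huz' : u * φ z0' * u⁻¹ = φ z0' := h.hW _ hz'W
  obtain ⟨j, hj⟩ : ∃ j : Fin 2, u * φ a0 * u⁻¹ = φ (a0 * z0' ^ (j : ℕ)) := by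
    rcases h.ha with h1 | h1
    · exact ⟨0, by simpa using h1⟩
    · exact ⟨1, by simpa [map_mul] using h1⟩
  obtain ⟨l, hl⟩ : ∃ l : Fin 2, u * φ b0 * u⁻¹ = φ (a0 * b0 * z0' ^ (l : ℕ)) := by
    rcases h.hb with h1 | h1
    · exact ⟨0, by simpa [map_mul] using h1⟩
    · exact ⟨1, by simpa [map_mul] using h1⟩
  obtain ⟨j', hj'⟩ : ∃ j : Fin 2, u * φ a0' * u⁻¹ = φ (a0' * z0 ^ (j : ℕ)) := by
    rcases h.ha' with h1 | h1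
    · exact ⟨0, by simpa using h1⟩
    · exact ⟨1, by simpa [map_mul] using h1⟩
  obtain ⟨l', hl'⟩ : ∃ l : Fin 2, u * φ b0' * u⁻¹ = φ (a0' * b0' * z0 ^ (l : ℕ)) := by
    rcases h.hb' with h1 | h1
    · exact ⟨0, by simpa [map_mul] using h1⟩
    · exact ⟨1, by simpa [map_mul] using h1⟩
  -- the action of `u²`
  have kb : u ^ 2 * φ b0 * (u ^ 2)⁻¹ =
      φ ((a0 * z0' ^ (j : ℕ)) * (a0 * b0 * z0' ^ (l : ℕ)) * z0' ^ (l : ℕ)) := by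
    rw [s02_ysq2_sq, hl]
    have e2 : u * φ (a0 * b0 * z0' ^ (l : ℕ)) * u⁻¹ =
        (u * φ a0 * u⁻¹) * (u * φ b0 * u⁻¹) * (u * φ z0' * u⁻¹) ^ (l : ℕ) := by
      rw [map_mul, map_mul, map_pow, conj_pow]; group
    rw [e2, hj, hl, huz']
    simp only [map_mul, map_pow]
  have kb' : u ^ 2 * φ b0' * (u ^ 2)⁻¹ =
      φ ((a0' * z0 ^ (j' : ℕ)) * (a0' * b0' * z0 ^ (l' : ℕ)) * z0 ^ (l' : ℕ)) := by
    rw [s02_ysq2_sq, hl']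
    have e2 : u * φ (a0' * b0' * z0 ^ (l' : ℕ)) * u⁻¹ =
        (u * φ a0' * u⁻¹) * (u * φ b0' * u⁻¹) * (u * φ z0 * u⁻¹) ^ (l' : ℕ) := by
      rw [map_mul, map_mul, map_pow, conj_pow]; group
    rw [e2, hj', hl', huz]
    simp only [map_mul, map_pow]
  obtain ⟨x0, hx0, hx⟩ := hu2
  have pull : ∀ g0 w0 : W3, u ^ 2 * φ g0 * (u ^ 2)⁻¹ = φ w0 → x0 * g0 * x0⁻¹ = w0 := by
    intro g0 w0 hgw
    apply hφ.inj
    rw [← hgw, ← hx]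
    simp only [map_mul, map_inv]
  have hj0 : j = 0 := s02_ysq2_W3a x0 hx0 j l (pull _ _ kb)
  have hj'0 : j' = 0 := s02_ysq2_W3b x0 hx0 j' l' (pull _ _ kb')
  subst hj0
  subst hj'0
  have hua : u * φ a0 * u⁻¹ = φ a0 := by simpa using hj
  have hua' : u * φ a0' * u⁻¹ = φ a0' := by simpa using hj'
  have ka : u ^ 2 * φ a0 * (u ^ 2)⁻¹ = φ a0 := by rw [s02_ysq2_sq, hua, hua]
  have ka' : u ^ 2 * φ a0' * (u ^ 2)⁻¹ = φ a0' := by rw [s02_ysq2_sq, hua', hua']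
  refine ⟨hua, hua', ?_⟩
  have hcases := s02_ysq2_W3c x0 hx0 l l' (pull _ _ ka) (pull _ _ ka') (pull _ _ kb) (pull _ _ kb')
  rw [← hx]
  rcases hcases with hc | hc | hc | hc
  · left; rw [hc, map_mul]
  · right; left; rw [hc, map_mul, map_inv]
  · right; right; left; rw [hc, map_mul, map_inv]
  · right; right; right; rw [hc, map_mul, map_inv, map_inv]

end Cfsg.Agent.Helper12.S02
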