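import Mathlib
import Cfsg.Agent.Lib.S02.S02Defs
import Cfsg.Agent.Lib.S02.MGEN
import Cfsg.Agent.Lib.S02.MREL
import Cfsg.Agent.Lib.S02.MPEQ

/-! S4402 design (helper12), piece YT.  See plans/S4402_plan.md. -/

set_option autoImplicit false

namespace Cfsg.Agent.Helper12.S02

open Subgroup

set_option maxRecDepth 1000000 in
/-- the `W3` computation behind `t_compat` -/
theorem s02_yt_dec : ∀ m0 : W3, m0 ^ 2 = 1 → m0 * a0 * m0⁻¹ = a0' → m0 * a0' * m0⁻¹ = a0 →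
    ((m0 * (a0 * b0) * m0⁻¹ = a0' * b0' → t0⁻¹ * m0 ∈ Z0) ∧
     (m0 * (a0 * b0) * m0⁻¹ = a0' * b0' * z0 → False) ∧
     (m0 * (a0 * b0 * z0') * m0⁻¹ = a0' * b0' → False) ∧
     (m0 * (a0 * b0 * z0') * m0⁻¹ = a0' * b0' * z0 → t0⁻¹ * m0 ∈ Z0)) := by decide +kernel

/-- compatibility with `t`: `m := u t u⁻¹ ∈ P` is an involution with
`m (u g u⁻¹) m⁻¹ = u (t g t⁻¹) u⁻¹` for `g = a, a', b, b'`; in `W3` (for each of the four
combinations of the alternatives in `h.hb`, `h.hb'`) `decide` shows `m ∈ t0 Z0` and that the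
alternatives agree. -/
theorem t_compat {S : Type*} [Group S] [Finite S] {P : Subgroup S} {φ : W3 →* S}
    (hφ : WD P φ) (u : S) (huP : NormBy u P) (h : SwapForm2 φ u)
    (hua : u * φ a0 * u⁻¹ = φ a0) (hua' : u * φ a0' * u⁻¹ = φ a0') :
    (∃ c ∈ Zs φ, u * φ t0 * u⁻¹ = φ t0 * c) ∧
      ((u * φ b0 * u⁻¹ = φ a0 * φ b0 ∧ u * φ b0' * u⁻¹ = φ a0' * φ b0') ∨
        (u * φ b0 * u⁻¹ = φ a0 * φ b0 * φ z0' ∧ u * φ b0' * u⁻¹ = φ a0' * φ b0' * φ z0)) := by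
  have ht0P : φ t0 ∈ P := by rw [← hφ.range_eq]; exact ⟨t0, rfl⟩
  have hmP := huP _ ht0P
  rw [← hφ.range_eq] at hmP
  obtain ⟨m0, hm0⟩ := hmP
  have hconj : ∀ g : S, φ m0 * (u * g * u⁻¹) * (φ m0)⁻¹ = u * (φ t0 * g * (φ t0)⁻¹) * u⁻¹ := by
    intro g
    rw [hm0]
    group
  have hta : φ t0 * φ a0 * (φ t0)⁻¹ = φ a0' := by
    have h0 := congrArg φ (show t0 * a0 * t0⁻¹ = a0' by decide)
    rwa [map_mul, map_mul, map_inv] at h0
  have hta' : φ t0 * φ a0' * (φ t0)⁻¹ = φ a0 := by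
    have h0 := congrArg φ (show t0 * a0' * t0⁻¹ = a0 by decide)
    rwa [map_mul, map_mul, map_inv] at h0
  have htb : φ t0 * φ b0 * (φ t0)⁻¹ = φ b0' := by
    have h0 := congrArg φ (show t0 * b0 * t0⁻¹ = b0' by decide)
    rwa [map_mul, map_mul, map_inv] at h0
  have ht2 : φ t0 ^ 2 = 1 := by
    rw [← map_pow, show t0 ^ 2 = 1 by decide, map_one]
  have h1 : m0 ^ 2 = 1 := by
    apply hφ.inj
    rw [map_pow, hm0, map_one, conj_pow, ht2]
    group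
  have h2 : m0 * a0 * m0⁻¹ = a0' := by
    apply hφ.inj
    rw [map_mul, map_mul, map_inv]
    have h0 := hconj (φ a0)
    rw [hua, hta, hua'] at h0
    exact h0
  have h3 : m0 * a0' * m0⁻¹ = a0 := by
    apply hφ.inj
    rw [map_mul, map_mul, map_inv]
    have h0 := hconj (φ a0')
    rw [hua', hta', hua] at h0
    exact h0
  obtain ⟨d1, d2, d3, d4⟩ := s02_yt_dec m0 h1 h2 h3
  have hb0 := hconj (φ b0)
  rw [htb] at hb0
  have hconcl : t0⁻¹ * m0 ∈ Z0 → ∃ c ∈ Zs φ, u * φ t0 * u⁻¹ = φ t0 * c := by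
    intro hz
    refine ⟨φ (t0⁻¹ * m0), Subgroup.mem_map_of_mem φ hz, ?_⟩
    rw [← hm0, ← map_mul]
    congr 1
    group
  rcases h.hb with hb | hb <;> rcases h.hb' with hb' | hb'
  · rw [hb, hb'] at hb0
    have h4 : m0 * (a0 * b0) * m0⁻¹ = a0' * b0' := by
      apply hφ.inj
      rw [map_mul, map_mul, map_mul, map_mul, map_inv]
      exact hb0
    exact ⟨hconcl (d1 h4), Or.inl ⟨hb, hb'⟩⟩
  · rw [hb, hb'] at hb0
    have h4 : m0 * (a0 * b0) * m0⁻¹ = a0' * b0' * z0 := by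
      apply hφ.inj
      rw [map_mul, map_mul, map_mul, map_mul, map_mul, map_inv]
      exact hb0
    exact (d2 h4).elim
  · rw [hb, hb'] at hb0
    have h4 : m0 * (a0 * b0 * z0') * m0⁻¹ = a0' * b0' := by
      apply hφ.inj
      rw [map_mul, map_mul, map_mul, map_mul, map_mul, map_inv]
      exact hb0
    exact (d3 h4).elim
  · rw [hb, hb'] at hb0
    have h4 : m0 * (a0 * b0 * z0') * m0⁻¹ = a0' * b0' * z0 := by
      apply hφ.inj
      rw [map_mul, map_mul, map_mul, map_mul, map_mul, map_mul, map_inv]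
      exact hb0
    exact ⟨hconcl (d4 h4), Or.inr ⟨hb, hb'⟩⟩

end Cfsg.Agent.Helper12.S02
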