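import Mathlib
import Cfsg.Agent.Lib.S02.S02Defs
import Cfsg.Agent.Lib.S02.N1
import Cfsg.Agent.Lib.S02.N2
import Cfsg.Agent.Lib.S02.KSWAP
import Cfsg.Agent.Lib.S02.CSMAIN
import Cfsg.Agent.Lib.S02.NM1A
import Cfsg.Agent.Lib.S02.NM1B
import Cfsg.Agent.Lib.S02.YSQ1
import Cfsg.Agent.Lib.S02.YSQ2
import Cfsg.Agent.Lib.S02.YT
import Cfsg.Agent.Lib.S02.YEPS
import Cfsg.Agent.Lib.S02.KMUL
import Cfsg.Agent.Lib.S02.KINV
import Cfsg.Agent.Lib.S02.MLE
import Cfsg.Agent.Lib.S02.MGEN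

/-! S4402 design (helper12), piece YN.  See plans/S4402_plan.md. -/

set_option autoImplicit false

namespace Cfsg.Agent.Helper12.S02

open Subgroup

/-- elements of a subgroup normalise it -/
theorem s02_yn_normBy_of_mem {S : Type*} [Group S] {P : Subgroup S} {p : S} (hp : p ∈ P) :
    NormBy p P := by
  intro x hx
  exact P.mul_mem (P.mul_mem hp hx) (P.inv_mem hp)

/-- assembly: every `y ∈ N_S(P) − P` can be replaced by `u ∈ y P` in normal form.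
(`y` does not normalise `V₁` (`mem_of_normBy_V`), so swaps (`swap_of_not`); `swap_main`,
`norm_D`, `norm_D'` give `u` with `SwapForm2`; `u² ∈ P` by `inv_mul_mem u⁻¹ u`; then `sq_mem_B`,
`sq_form`, `t_compat`, `sq_eps`.) -/
theorem exists_yform {S : Type*} [Group S] [Finite S] (h2 : IsPGroup 2 S)
    (hr : Cfsg.SectionalPRankLE 2 4 S) {P : Subgroup S} {φ : W3 →* S} (hφ : WD P φ) (y : S)
    (hyP : NormBy y P) (hyn : y ∉ P) :
    ∃ u : S, NormBy u P ∧ u ∉ P ∧ YForm φ u := by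
  have hnv1 : ¬ NormBy y (V1s φ) := fun h => hyn (mem_of_normBy_V h2 hr hφ y hyP (Or.inl h))
  obtain ⟨h12, h21⟩ := swap_of_not hφ y hyP (Or.inl hnv1)
  obtain ⟨u1, hu1, hSF⟩ := swap_main hφ y hyP h12 h21
  obtain ⟨g1, hg1, hSF1⟩ := norm_D hφ u1 hSF
  obtain ⟨g2, hg2, hSF2⟩ := norm_D' hφ (u1 * g1) hSF1
  obtain ⟨-, -, -, -, -, hBP, -, -⟩ := le_facts hφ
  have ht0P : φ t0 ∈ P := by rw [← hφ.range_eq]; exact ⟨t0, rfl⟩
  -- `u = y * p` with `p ∈ P`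
  obtain ⟨p, hpP, hup⟩ : ∃ p ∈ P, u1 * g1 * g2 = y * p := by
    rcases hu1 with rfl | rfl
    · exact ⟨g1 * g2, P.mul_mem (hBP hg1) (hBP hg2), by group⟩
    · exact ⟨φ t0 * g1 * g2, P.mul_mem (P.mul_mem ht0P (hBP hg1)) (hBP hg2), by group⟩
  set u := u1 * g1 * g2 with hu
  have huP : NormBy u P := by
    rw [hup]
    exact (normBy_mul hyP (s02_yn_normBy_of_mem hpP)).1
  have hun : u ∉ P := by
    intro hmem
    apply hyn
    have e : y = u * p⁻¹ := by rw [hup]; group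
    rw [e]
    exact P.mul_mem hmem (P.inv_mem hpP)
  have huiP : NormBy u⁻¹ P := (normBy_inv huP).1
  have huin : u⁻¹ ∉ P := fun hmem => hun (by simpa using P.inv_mem hmem)
  have hu2 : u ^ 2 ∈ P := by
    have h := inv_mul_mem h2 hr hφ u⁻¹ u huiP huP huin hun
    rw [inv_inv] at h
    rw [pow_two]
    exact h
  have hu2B : u ^ 2 ∈ Bs φ := sq_mem_B hφ u hu2 hSF2
  obtain ⟨hua, hua', hsq4⟩ := sq_form hφ u hu2B hSF2
  obtain ⟨ht, hb⟩ := t_compat hφ u huP hSF2 hua hua'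
  have hsq := sq_eps hφ u ht hSF2.hW hsq4
  exact ⟨u, huP, hun, ⟨hua, hua', hb, ht, hsq⟩⟩

end Cfsg.Agent.Helper12.S02
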